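import Mathlib
import Cfsg.Agent.H936.PSNonreg

/-!
# The permutation of the simple factors of a minimal normal subgroup (helper429, S3692)

`gp hT e : G →* Perm (Fin m)` for a normal subgroup `M` with `e : M ≃* (Fin m → T)`.
-/

set_option autoImplicit false

namespace Cfsg.Agent.H429.Reg

open Subgroup Cfsg.Agent.H936

section

variable {G : Type*} [Group G] (M : Subgroup G) [hM : M.Normal]

/-- `G` as a group normalising `M`. -/
def nrm : G →* ↥(normalizer (M : Set G)) :=
  (MonoidHom.id G).codRestrict _ (fun g => by rw [normalizer_eq_top]; trivial)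

theorem nrm_coe (g : G) : ((nrm M g : ↥(normalizer (M : Set G))) : G) = g := rfl

variable {M} {m : ℕ} {T : Type*} [Group T]

/-- The action on `T ^ m`. -/
def cja (e : M ≃* (Fin m → T)) : G →* MulAut (Fin m → T) := (cjHom e).comp (nrm M)

theorem cja_apply (e : M ≃* (Fin m → T)) (g : G) (n n' : M) (h : g * n * g⁻¹ = n') :
    cja e g (e n) = e n' := cjHom_apply e (nrm M g) n n' h

theorem cja_mem (e : M ≃* (Fin m → T)) (n : M) : cja e (n : G) = MulAut.conj (e n) :=
  cjHom_mem e n _

variable [IsSimpleGroup T] (hT : ¬ IsMulCommutative T)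

/-- The permutation of the factors. -/
noncomputable def gp (e : M ≃* (Fin m → T)) : G →* Equiv.Perm (Fin m) := (AutPow.perm hT).comp (cja e)

theorem gp_mem (e : M ≃* (Fin m → T)) (n : M) : gp hT e (n : G) = 1 := by
  change AutPow.perm hT (cja e (n : G)) = 1
  rw [cja_mem, AutPow.perm_conj]

theorem gp_spec (e : M ≃* (Fin m → T)) (g : G) :
    ∃ φ : Fin m → MulAut T, ∀ x i, cja e g x (gp hT e g i) = φ i (x i) := AutPow.perm_spec hT _

theorem gp_one_iff (e : M ≃* (Fin m → T)) (g : G) (n n' : M) (h : g * n * g⁻¹ = n') (i : Fin m) :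
    e n' (gp hT e g i) = 1 ↔ e n i = 1 := by
  rw [← cja_apply e g n n' h]
  exact AutPow.perm_one_iff hT _ _ _

omit [IsSimpleGroup T] in
theorem inv_mul_mem_centralizer (e : M ≃* (Fin m → T)) {k : G} {n : M} (h : cja e k = MulAut.conj (e n)) :
    (n : G)⁻¹ * k ∈ centralizer (M : Set G) := by
  have h1 : ∀ x : M, k * x * k⁻¹ = (n : G) * x * (n : G)⁻¹ := by
    intro x
    have h2 : k * x * k⁻¹ ∈ M := hM.conj_mem _ x.2 k
    have h3 := cja_apply e k x ⟨_, h2⟩ rfl
    rw [h, MulAut.conj_apply, ← map_inv, ← map_mul, ← map_mul] at h3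
    exact (congrArg Subtype.val (e.injective h3)).symm
  rw [mem_centralizer_iff]
  intro x hx
  have h3 := h1 ⟨x, hx⟩
  have h4 : k * x = (n : G) * x * (n : G)⁻¹ * k := by
    rw [← h3]; group
  rw [mul_assoc, h4]
  group

/-- **A perfect subgroup acting trivially on the factors lies in `M C(M)`** (Schreier). -/
theorem exists_of_perfect {d : ℕ} (hd : DS d T) (e : M ≃* (Fin m → T)) {Y : Subgroup G} (hY : ⁅Y, Y⁆ = Y)
    (hp : ∀ y ∈ Y, gp hT e y = 1) {y : G} (hy : y ∈ Y) :
    ∃ n : M, (n : G)⁻¹ * y ∈ centralizer (M : Set G) := by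
  have hder : ∀ j, derivedSeries Y j = ⊤ := by
    intro j
    induction j with
    | zero => rfl
    | succ j ih =>
      rw [derivedSeries_succ, ih]
      apply Subgroup.map_injective Y.subtype_injective
      rw [Subgroup.map_commutator, ← MonoidHom.range_eq_map, Subgroup.range_subtype, hY]
  obtain ⟨z, hz⟩ := AutPow.map_derivedSeries_le_conj hT hd ((cja e).comp Y.subtype)
    (fun k => hp k k.2) (k := ⟨y, hy⟩) (by rw [hder]; trivial)
  obtain ⟨n, rfl⟩ := e.surjective z
  exact ⟨n, inv_mul_mem_centralizer e hz⟩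

/-- The permutation group induced on the factors is transitive. -/
theorem exists_gp (hmin : ∀ X : Subgroup G, X.Normal → X ≤ M → X = ⊥ ∨ X = M) (e : M ≃* (Fin m → T)) (i₀ i : Fin m) :
    ∃ v : G, gp hT e v i₀ = i := by
  classical
  by_contra hcon
  push Not at hcon
  let O : Set (Fin m) := {j | ∃ v : G, gp hT e v i₀ = j}
  let X' : Subgroup M :=
    { carrier := {n | ∀ j ∉ O, e n j = 1}
      one_mem' := fun j _ => by rw [map_one]; rfl
      mul_mem' := fun {x y} hx hy j hj => by rw [map_mul, Pi.mul_apply, hx j hj, hy j hj, one_mul]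
      inv_mem' := fun {x} hx j hj => by rw [map_inv, Pi.inv_apply, hx j hj, inv_one] }
  have hX' : ∀ n, n ∈ X' ↔ ∀ j ∉ O, e n j = 1 := fun n => Iff.rfl
  let X : Subgroup G := X'.map M.subtype
  have hX : ∀ n : M, (n : G) ∈ X ↔ n ∈ X' := by
    intro n
    constructor
    · rintro ⟨n', hn', h⟩
      have : n' = n := Subtype.ext h
      exact this ▸ hn'
    · exact fun h => ⟨n, h, rfl⟩
  have hXM : X ≤ M := by
    rintro _ ⟨n, -, rfl⟩
    exact n.2
  have hXn : X.Normal := by
    refine ⟨fun n hn v => ?_⟩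
    have hn' : (⟨n, hXM hn⟩ : M) ∈ X' := (hX _).1 hn
    have hc : v * n * v⁻¹ ∈ M := hM.conj_mem _ (hXM hn) v
    refine (hX ⟨_, hc⟩).2 ?_
    intro j hj
    obtain ⟨i', rfl⟩ := (gp hT e v).surjective j
    rw [gp_one_iff hT e v ⟨n, hXM hn⟩ ⟨_, hc⟩ rfl]
    apply hn'
    rintro ⟨u, hui⟩
    apply hj
    exact ⟨v * u, by rw [map_mul, Equiv.Perm.mul_apply, hui]⟩
  obtain ⟨t, ht⟩ := exists_ne (1 : T)
  rcases hmin X hXn hXM with h | h
  · have h2 : ((e.symm (Pi.mulSingle i₀ t) : M) : G) ∈ X := by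
      rw [hX]
      intro j hj
      rw [e.apply_symm_apply, Pi.mulSingle_eq_of_ne]
      rintro rfl
      apply hj
      exact ⟨1, by rw [map_one]; rfl⟩
    rw [h, Subgroup.mem_bot] at h2
    have h3 : e.symm (Pi.mulSingle i₀ t) = 1 := Subtype.ext h2
    rw [MulEquiv.symm_apply_eq, map_one, Pi.mulSingle_eq_one_iff] at h3
    exact ht h3
  · have h2 : ((e.symm (Pi.mulSingle i t) : M) : G) ∈ X := by
      rw [h]
      exact (e.symm (Pi.mulSingle i t)).2
    rw [hX] at h2
    have h3 := h2 i (by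
      rintro ⟨v, h⟩
      exact hcon v h)
    rw [e.apply_symm_apply, Pi.mulSingle_eq_same] at h3
    exact ht h3

include hT in
/-- In the product case, the factors of `M ⊓ K` have the same index. -/
theorem index_eq {K : Subgroup G} (hKM : ∀ g : G, ∃ n ∈ M, g * n ∈ K)
    (hmin : ∀ X : Subgroup G, X.Normal → X ≤ M → X = ⊥ ∨ X = M)
    (e : M ≃* (Fin m → T)) (L : Fin m → Subgroup T)
    (hL : ∀ n : M, (n : G) ∈ K ↔ ∀ i, e n i ∈ L i) (i₀ i : Fin m) : (L i₀).index = (L i).index := by
  classical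
  obtain ⟨v₀, hv₀⟩ := exists_gp hT hmin e i₀ i
  obtain ⟨n₀, hn₀, hv⟩ := hKM v₀
  set v := v₀ * n₀ with hvdef
  have hvi : gp hT e v i₀ = i := by
    have h1 := gp_mem hT e ⟨n₀, hn₀⟩
    rw [hvdef, map_mul]
    change gp hT e n₀ = 1 at h1
    rw [h1, mul_one, hv₀]
  obtain ⟨φ, hφ⟩ := gp_spec hT e v
  have h3 : ∀ t, t ∈ L i₀ ↔ φ i₀ t ∈ L i := by
    intro t
    set n : M := e.symm (Pi.mulSingle i₀ t) with hn
    have hc : v * n * v⁻¹ ∈ M := hM.conj_mem _ n.2 v
    have h4 := cja_apply e v n ⟨_, hc⟩ rfl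
    have hen : e n = Pi.mulSingle i₀ t := e.apply_symm_apply _
    have h5 : e ⟨_, hc⟩ i = φ i₀ t := by
      rw [← h4, hen]
      have := hφ (Pi.mulSingle i₀ t) i₀
      rwa [hvi, Pi.mulSingle_eq_same] at this
    have h6 : ∀ j, j ≠ i → e ⟨_, hc⟩ j = 1 := by
      intro j hj
      obtain ⟨l, rfl⟩ := (gp hT e v).surjective j
      rw [← h4, hen, hφ]
      have hl : l ≠ i₀ := by
        rintro rfl
        exact hj hvi
      rw [Pi.mulSingle_eq_of_ne hl, map_one]
    have h7 : (n : G) ∈ K ↔ t ∈ L i₀ := by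
      rw [hL, hen]
      constructor
      · intro h
        have := h i₀
        rwa [Pi.mulSingle_eq_same] at this
      · intro h j
        by_cases hj : j = i₀
        · subst hj
          rwa [Pi.mulSingle_eq_same]
        · rw [Pi.mulSingle_eq_of_ne hj]
          exact (L j).one_mem
    have h8 : v * n * v⁻¹ ∈ K ↔ φ i₀ t ∈ L i := by
      have h9 := hL ⟨_, hc⟩
      rw [← h5]
      refine h9.trans ?_
      constructor
      · exact fun h => h i
      · intro h j
        by_cases hj : j = i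
        · subst hj
          exact h
        · rw [h6 j hj]
          exact (L j).one_mem
    rw [← h7, ← h8]
    constructor
    · intro h
      exact K.mul_mem (K.mul_mem hv h) (K.inv_mem hv)
    · intro h
      have h9 := K.mul_mem (K.mul_mem (K.inv_mem hv) h) hv
      have h10 : v⁻¹ * (v * (n : G) * v⁻¹) * v = n := by group
      rwa [h10] at h9
  have h4 : L i₀ = (L i).comap (φ i₀).toMonoidHom := by
    ext t
    exact h3 t
  rw [h4]
  exact index_comap_of_surjective _ (φ i₀).surjective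

end

end Cfsg.Agent.H429.Reg
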