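import Mathlib
import Cfsg.Prelude.Def_Solvable
import Cfsg.Agent.Lib.Cores

/-!
# Subgroups of symmetric groups containing or normalized by the alternating group
-/

set_option autoImplicit false
set_option linter.unusedSectionVars false

namespace Cfsg.Agent.H429.AltLemmas

open Subgroup Equiv

variable {α : Type*} [Fintype α] [DecidableEq α]

theorem exists_alt_map (h : 4 ≤ Nat.card α) {u v : α} (huv : u ≠ v) :
    ∃ σ ∈ alternatingGroup α, σ u = u ∧ σ v ≠ v := by
  obtain ⟨w, hw⟩ : ∃ w, w ∉ ({u, v} : Finset α) := by
    by_contra hcon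
    push Not at hcon
    have h1 : Finset.univ ⊆ ({u, v} : Finset α) := fun x _ => hcon x
    have h2 := (Finset.card_le_card h1).trans Finset.card_le_two
    rw [Finset.card_univ, ← Nat.card_eq_fintype_card] at h2
    omega
  obtain ⟨t, ht⟩ : ∃ t, t ∉ ({u, v, w} : Finset α) := by
    by_contra hcon
    push Not at hcon
    have h1 : Finset.univ ⊆ ({u, v, w} : Finset α) := fun x _ => hcon x
    have h2 := (Finset.card_le_card h1).trans Finset.card_le_three
    rw [Finset.card_univ, ← Nat.card_eq_fintype_card] at h2
    omega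
  simp only [Finset.mem_insert, Finset.mem_singleton, not_or] at hw ht
  refine ⟨swap v w * swap v t, ?_, ?_, ?_⟩
  · rw [Perm.mem_alternatingGroup, map_mul, Perm.sign_swap (Ne.symm hw.2), Perm.sign_swap (Ne.symm ht.2.1)]
    decide
  · rw [Perm.mul_apply, swap_apply_of_ne_of_ne huv (Ne.symm ht.1),
      swap_apply_of_ne_of_ne huv (Ne.symm hw.1)]
  · rw [Perm.mul_apply, swap_apply_left, swap_apply_of_ne_of_ne ht.2.1 ht.2.2]
    exact ht.2.1

theorem centralizer_alternatingGroup (h : 4 ≤ Nat.card α) :
    centralizer (alternatingGroup α : Set (Perm α)) = ⊥ := by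
  rw [eq_bot_iff]
  intro x hx
  rw [mem_bot]
  ext u
  by_contra hne
  obtain ⟨σ, hσ, h1, h2⟩ := exists_alt_map h (Ne.symm hne : u ≠ x u)
  have h3 := mem_centralizer_iff.mp hx σ hσ
  have h4 := congrArg (fun f : Perm α => f u) h3
  simp only [Perm.mul_apply, h1] at h4
  exact h2 h4

/-- A nontrivial subgroup normalized by the alternating group contains it. -/
theorem alternatingGroup_le (h : 5 ≤ Nat.card α) {X : Subgroup (Perm α)} (hX : X ≠ ⊥)
    (hn : alternatingGroup α ≤ normalizer (X : Set (Perm α))) : alternatingGroup α ≤ X := by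
  have hs : IsSimpleGroup (alternatingGroup α) := alternatingGroup.isSimpleGroup h
  have hXn : (X.subgroupOf (alternatingGroup α)).Normal := normal_subgroupOf_of_le_normalizer hn
  rcases hXn.eq_bot_or_eq_top with h1 | h1
  · exfalso
    apply hX
    rw [eq_bot_iff, ← centralizer_alternatingGroup (by omega : 4 ≤ Nat.card α)]
    intro x hx
    rw [mem_centralizer_iff]
    intro y hy
    have h2 : y * x * y⁻¹ * x⁻¹ ∈ X := X.mul_mem ((mem_normalizer_iff.mp (hn hy) x).mp hx) (X.inv_mem hx)
    have h3 : y * x * y⁻¹ * x⁻¹ ∈ alternatingGroup α := by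
      have : y * x * y⁻¹ * x⁻¹ = y * (x * y⁻¹ * x⁻¹) := by group
      rw [this]
      exact (alternatingGroup α).mul_mem hy
        ((inferInstance : (alternatingGroup α).Normal).conj_mem _ ((alternatingGroup α).inv_mem hy) x)
    have h4 : (⟨_, h3⟩ : alternatingGroup α) ∈ X.subgroupOf (alternatingGroup α) := h2
    rw [h1, mem_bot] at h4
    have h5 := congrArg Subtype.val h4
    change y * x * y⁻¹ * x⁻¹ = 1 at h5
    rwa [mul_inv_eq_one, mul_inv_eq_iff_eq_mul] at h5
  · exact subgroupOf_eq_top.mp h1

theorem alternatingGroup_not_isSolvable (h : 5 ≤ Nat.card α) {Y : Subgroup (Perm α)}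
    (hY : alternatingGroup α ≤ Y) : ¬ Group.IsSolvable Y := by
  intro hs
  have h1 : Group.IsSolvable (alternatingGroup α) :=
    Group.isSolvable_of_isSolvable_injective (f := inclusion hY) (inclusion_injective hY)
  have hsim : IsSimpleGroup (alternatingGroup α) := alternatingGroup.isSimpleGroup h
  have h2 : ∀ x y : alternatingGroup α, x * y = y * x := fun x y =>
    (IsSimpleGroup.comm_iff_isSolvable.mpr h1) x y
  have h3 : alternatingGroup α ≤ centralizer (alternatingGroup α : Set (Perm α)) := by
    intro x hx
    rw [mem_centralizer_iff]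
    intro y hy
    exact congrArg Subtype.val (h2 ⟨y, hy⟩ ⟨x, hx⟩)
  rw [centralizer_alternatingGroup (by omega)] at h3
  have h4 : Nontrivial (alternatingGroup α) := hsim.toNontrivial
  rw [Subgroup.nontrivial_iff_ne_bot] at h4
  exact h4 (le_bot_iff.mp h3)

/-- The Fitting subgroup of a group containing the alternating group. -/
theorem fittingSubgroup_eq_bot (h : 5 ≤ Nat.card α) {Y : Subgroup (Perm α)}
    (hY : alternatingGroup α ≤ Y) : Cfsg.fittingSubgroup Y = ⊥ := by
  by_contra hne
  set X := (Cfsg.fittingSubgroup Y).map Y.subtype with hX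
  have h1 : X ≠ ⊥ := fun h2 => hne ((map_eq_bot_iff_of_injective _ Y.subtype_injective).mp h2)
  have h2 : alternatingGroup α ≤ normalizer (X : Set (Perm α)) := by
    have h3 := le_normalizer_map (H := Cfsg.fittingSubgroup Y) Y.subtype
    rw [normalizer_eq_top_iff.mpr Cfsg.Agent.Lib.Cores.fittingSubgroup_normal,
      ← MonoidHom.range_eq_map, range_subtype] at h3
    exact hY.trans h3
  have h3 := alternatingGroup_le h h1 h2
  refine alternatingGroup_not_isSolvable h h3 ?_
  have h4 : Group.IsNilpotent (Cfsg.fittingSubgroup Y) :=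
    Cfsg.Agent.Lib.Cores.fittingSubgroup_isNilpotent
  have h5 : Group.IsSolvable (Cfsg.fittingSubgroup Y) := inferInstance
  exact Group.isSolvable_of_surjective (f := Y.subtype.subgroupMap (Cfsg.fittingSubgroup Y))
    (Y.subtype.subgroupMap_surjective _)

theorem eq_or_of_alternatingGroup_le {X : Subgroup (Perm α)} (h : alternatingGroup α ≤ X) :
    X = alternatingGroup α ∨ X = ⊤ := by
  by_cases hX : X ≤ alternatingGroup α
  · exact Or.inl (le_antisymm hX h)
  · right
    obtain ⟨x, hx, hxA⟩ := SetLike.not_le_iff_exists.mp hX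
    rw [eq_top_iff]
    intro y _
    by_cases hy : y ∈ alternatingGroup α
    · exact h hy
    · have h1 : Perm.sign x = -1 := by
        rcases Int.units_eq_one_or (Perm.sign x) with h2 | h2
        · exact absurd (Perm.mem_alternatingGroup.mpr h2) hxA
        · exact h2
      have h2 : Perm.sign y = -1 := by
        rcases Int.units_eq_one_or (Perm.sign y) with h2 | h2
        · exact absurd (Perm.mem_alternatingGroup.mpr h2) hy
        · exact h2
      have h3 : x⁻¹ * y ∈ alternatingGroup α := by
        rw [Perm.mem_alternatingGroup, map_mul, map_inv, h1, h2]; decide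
      have : y = x * (x⁻¹ * y) := by group
      rw [this]
      exact X.mul_mem hx (h h3)

theorem card_alternatingGroup_mul_two [Nontrivial α] :
    2 * Nat.card (alternatingGroup α) = Nat.factorial (Nat.card α) := by
  rw [two_mul_nat_card_alternatingGroup, Nat.card_perm]

end Cfsg.Agent.H429.AltLemmas

namespace Cfsg.Agent.H429.AltLemmas

open Subgroup Equiv

/-! ### Restriction to the complement of a fixed point -/

section res

variable {α D : Type*} [Group D] (φ : D →* Perm α) (b : α) (hb : ∀ x, φ x b = b)

include hb in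
theorem res_aux (x : D) (y : α) : φ x y ≠ b ↔ y ≠ b := by
  rw [not_iff_not]
  constructor
  · intro h
    rw [← hb x] at h
    exact (φ x).injective h
  · rintro rfl
    exact hb x

/-- The restriction of a permutation representation to the complement of a fixed point. -/
def res : D →* Perm {y : α // y ≠ b} where
  toFun x := (φ x).subtypePerm (res_aux φ b hb x)
  map_one' := by
    ext y
    simp
  map_mul' x z := by
    apply Equiv.ext
    intro y
    apply Subtype.ext
    change φ (x * z) y = φ x (φ z y)
    rw [map_mul]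
    rfl

variable [DecidableEq α]

theorem ofSubtype_res (x : D) : Perm.ofSubtype (res φ b hb x) = φ x := by
  refine Perm.ofSubtype_subtypePerm (res_aux φ b hb x) ?_
  intro y hy
  rintro rfl
  exact hy (hb x)

theorem res_eq_one_iff (x : D) : res φ b hb x = 1 ↔ φ x = 1 := by
  rw [← ofSubtype_res φ b hb x, ← (Perm.ofSubtype (p := fun y => y ≠ b)).map_one]
  exact (Perm.ofSubtype_injective.eq_iff).symm

theorem res_injective_iff (x y : D) : res φ b hb x = res φ b hb y ↔ φ x = φ y := by
  rw [← ofSubtype_res φ b hb x, ← ofSubtype_res φ b hb y]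
  exact (Perm.ofSubtype_injective.eq_iff).symm

theorem sign_res [Fintype α] (x : D) : Perm.sign (res φ b hb x) = Perm.sign (φ x) := by
  rw [← ofSubtype_res φ b hb x, Perm.sign_ofSubtype]

end res

end Cfsg.Agent.H429.AltLemmas
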