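import Mathlib
import Cfsg.Prelude.Def_Local
import Cfsg.Agent.Lib.Cores
import Cfsg.Agent.Lib.GenFitting
import Cfsg.Agent.SignalizersComponents.Components
import Cfsg.Agent.SignalizersComponents.ComponentExists

/-!
# Components of subgroups
-/

set_option autoImplicit false
set_option linter.unusedSectionVars false

namespace Cfsg.Agent.H429.Comp

open Subgroup Cfsg
open Cfsg.Agent.SignalizersComponents.Components

variable {G : Type*} [Group G]

/-- `K` is a component of the subgroup `X`. -/
def IsComp (X K : Subgroup G) : Prop := K ≤ X ∧ IsComponent (K.subgroupOf X)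

theorem IsComp.le {X K : Subgroup G} (h : IsComp X K) : K ≤ X := h.1

theorem IsComp.isQuasisimple {X K : Subgroup G} (h : IsComp X K) : IsQuasisimple K :=
  isQuasisimple_of_mulEquiv (subgroupOfEquivOfLe h.1) h.2.2

theorem IsComp.not_le_centralizer {X K : Subgroup G} (h : IsComp X K) {Y : Subgroup G}
    (hY : K ≤ Y) : ¬ K ≤ centralizer (Y : Set G) := by
  intro h1
  apply quasisimple_not_isMulCommutative h.isQuasisimple
  refine ⟨⟨fun x y => ?_⟩⟩
  apply Subtype.ext
  exact mem_centralizer_iff.mp (h1 y.2) x (hY x.2)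

theorem IsComp.ne_bot {X K : Subgroup G} (h : IsComp X K) : K ≠ ⊥ := by
  rintro rfl
  exact h.not_le_centralizer (Y := ⊥) bot_le bot_le

theorem IsComp.isPerfect {X K : Subgroup G} (h : IsComp X K) : ⁅K, K⁆ = K :=
  Subgroup.isPerfect_iff.mp h.isQuasisimple.1

/-- Components of a subgroup in a smaller subgroup. -/
theorem IsComp.of_le {X M K : Subgroup G} (h : IsComp X K) (hKM : K ≤ M) (hMX : M ≤ X) :
    IsComp M K := by
  refine ⟨hKM, ?_, isQuasisimple_of_mulEquiv (subgroupOfEquivOfLe hKM).symm h.isQuasisimple⟩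
  have h1 : ((K.subgroupOf X).comap (inclusion hMX)).IsSubnormal := h.2.1.comap _
  exact h1

/-- Components of a normal subgroup are components. -/
theorem IsComp.of_normal {X M K : Subgroup G} (h : IsComp M K) (hMX : M ≤ X)
    (hn : X ≤ normalizer (M : Set G)) : IsComp X K := by
  refine ⟨h.1.trans hMX, ?_⟩
  have hMn : (M.subgroupOf X).Normal := by
    rw [normal_subgroupOf_iff_le_normalizer hMX]; exact hn
  let e : M ≃* M.subgroupOf X := (subgroupOfEquivOfLe hMX).symm
  have h1 := isComponent_map_equiv e h.2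
  have h2 := isComponent_map_subtype hMn.isSubnormal h1
  have h3 : (((K.subgroupOf M).map e.toMonoidHom).map (M.subgroupOf X).subtype) = K.subgroupOf X := by
    rw [map_map]
    ext x
    constructor
    · rintro ⟨y, hy, rfl⟩
      exact hy
    · intro hx
      exact ⟨⟨x, h.1 hx⟩, hx, rfl⟩
  rwa [h3] at h2

/-- A component is in a given normal subgroup, or centralizes it. -/
theorem IsComp.le_or {X M K : Subgroup G} (h : IsComp X K) (hMX : M ≤ X)
    (hn : X ≤ normalizer (M : Set G)) : K ≤ M ∨ K ≤ centralizer (M : Set G) := by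
  have hMn : (M.subgroupOf X).Normal := by
    rw [normal_subgroupOf_iff_le_normalizer hMX]; exact hn
  rcases component_le_or_commutator_eq_bot h.2 hMn.isSubnormal with h1 | h1
  · left
    intro x hx
    have : (⟨x, h.1 hx⟩ : X) ∈ M.subgroupOf X := h1 hx
    exact this
  · right
    intro x hx
    rw [mem_centralizer_iff]
    intro y hy
    have h2 := mem_centralizer_iff.mp
      (commutator_eq_bot_iff_le_centralizer.mp h1 (show (⟨x, h.1 hx⟩ : X) ∈ K.subgroupOf X from hx))
      ⟨y, hMX hy⟩ hy
    exact congrArg Subtype.val h2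

/-- Different components commute. -/
theorem IsComp.eq_or {X K L : Subgroup G} (h : IsComp X K) (h' : IsComp X L) :
    K = L ∨ K ≤ centralizer (L : Set G) := by
  by_cases hne : K.subgroupOf X = L.subgroupOf X
  · left
    rw [← inf_of_le_left h.1, ← inf_of_le_left h'.1, ← subgroupOf_map_subtype, hne,
      subgroupOf_map_subtype]
  · right
    intro x hx
    rw [mem_centralizer_iff]
    intro y hy
    have h2 := mem_centralizer_iff.mp
      (component_le_centralizer_of_ne h.2 h'.2 hne (show (⟨x, h.1 hx⟩ : X) ∈ K.subgroupOf X from hx))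
      ⟨y, h'.1 hy⟩ hy
    exact congrArg Subtype.val h2

theorem IsComp.le_normalizer {X K L : Subgroup G} (h : IsComp X K) (h' : IsComp X L) :
    K ≤ normalizer (L : Set G) := by
  rcases h.eq_or h' with h1 | h1
  · rw [h1]; exact Subgroup.le_normalizer
  · exact h1.trans (centralizer_le_normalizer _)

/-- Components and group isomorphisms. -/
theorem IsComp.map {X K : Subgroup G} (h : IsComp X K) (e : G ≃* G) :
    IsComp (X.map e.toMonoidHom) (K.map e.toMonoidHom) := by
  refine ⟨map_mono h.1, ?_⟩
  let e' := X.equivMapOfInjective e.toMonoidHom e.injective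
  have h1 := isComponent_map_equiv e' h.2
  have h2 : (K.subgroupOf X).map e'.toMonoidHom = (K.map e.toMonoidHom).subgroupOf (X.map e.toMonoidHom) := by
    ext ⟨x, hx⟩
    constructor
    · rintro ⟨y, hy, hxy⟩
      exact ⟨y, hy, congrArg Subtype.val hxy⟩
    · rintro ⟨y, hy, rfl⟩
      exact ⟨⟨y, h.1 hy⟩, hy, rfl⟩
  rwa [h2] at h1

theorem IsComp.conj {X K : Subgroup G} (h : IsComp X K) {g : G} (hg : g ∈ normalizer (X : Set G)) :
    IsComp X (K.map (MulAut.conj g).toMonoidHom) := by
  have h1 := h.map (MulAut.conj g)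
  have h2 : X.map (MulAut.conj g).toMonoidHom = X := by
    ext y
    rw [mem_map_equiv, MulAut.conj_symm_apply]
    have := mem_normalizer_iff.mp (inv_mem hg) y
    rw [inv_inv] at this
    exact this.symm
  rwa [h2] at h1

/-- A nontrivial normal subgroup of a group with trivial Fitting subgroup contains a component. -/
theorem exists_isComp [Finite G] {X M : Subgroup G} (hF : fittingSubgroup X = ⊥) (hMX : M ≤ X)
    (hn : X ≤ normalizer (M : Set G)) (h1 : M ≠ ⊥) : ∃ K, IsComp X K ∧ K ≤ M := by
  have hMn : (M.subgroupOf X).Normal := by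
    rw [normal_subgroupOf_iff_le_normalizer hMX]; exact hn
  have hc : M.subgroupOf X ≤ centralizer (fittingSubgroup X : Set X) := by
    rw [hF]
    intro x _
    rw [mem_centralizer_iff]
    intro y hy
    rw [SetLike.mem_coe, mem_bot] at hy
    rw [hy]; simp
  have hns : ¬ Group.IsSolvable (M.subgroupOf X) := by
    intro hs
    have h2 := Cfsg.Agent.SignalizersComponents.ComponentExists.le_fitting_of_isSubnormal_of_isSolvable
      hMn.isSubnormal hs hc
    rw [hF, le_bot_iff, subgroupOf_eq_bot] at h2
    exact h1 (h2.eq_bot_of_le hMX)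
  obtain ⟨K, hK, hKM⟩ := Cfsg.Agent.SignalizersComponents.ComponentExists.exists_isComponent_le
    hMn.isSubnormal hns hc
  refine ⟨K.map X.subtype, ⟨map_subtype_le _, ?_⟩, ?_⟩
  · rw [subgroupOf, comap_map_eq_self_of_injective X.subtype_injective]
    exact hK
  · rintro _ ⟨x, hx, rfl⟩
    exact hKM hx

/-! ### The layer -/

/-- The layer of a subgroup. -/
def EE (X : Subgroup G) : Subgroup G := (layer X).map X.subtype

theorem EE_def (X : Subgroup G) : EE X = (layer X).map X.subtype := rfl

theorem EE_le (X : Subgroup G) : EE X ≤ X := map_subtype_le _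

theorem IsComp.le_EE {X K : Subgroup G} (h : IsComp X K) : K ≤ EE X := by
  intro x hx
  exact ⟨⟨x, h.1 hx⟩, component_le_layer h.2 hx, rfl⟩

theorem EE_le_iff {X H : Subgroup G} : EE X ≤ H ↔ ∀ K, IsComp X K → K ≤ H := by
  constructor
  · intro h K hK
    exact hK.le_EE.trans h
  · intro h
    rw [EE_def, map_le_iff_le_comap, layer_le_iff]
    intro K hK
    rw [← map_le_iff_le_comap]
    refine h _ ⟨map_subtype_le _, ?_⟩
    rw [subgroupOf, comap_map_eq_self_of_injective X.subtype_injective]
    exact hK

theorem le_normalizer_EE (X : Subgroup G) : X ≤ normalizer (EE X : Set G) := by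
  have h := le_normalizer_map (H := layer X) X.subtype
  rw [normalizer_eq_top_iff.mpr (layer_normal X), ← MonoidHom.range_eq_map, range_subtype] at h
  exact h

theorem map_EE (X : Subgroup G) (e : G ≃* G) :
    (EE X).map e.toMonoidHom = EE (X.map e.toMonoidHom) := by
  have h := map_equiv_layer (X.equivMapOfInjective e.toMonoidHom e.injective)
  rw [EE_def, EE_def, ← h, map_map, map_map]
  congr 1

theorem map_conj_eq_of_mem {X : Subgroup G} {g : G} (hg : g ∈ normalizer (X : Set G)) :
    X.map (MulAut.conj g).toMonoidHom = X := by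
  ext y
  rw [mem_map_equiv, MulAut.conj_symm_apply]
  have := mem_normalizer_iff.mp (inv_mem hg) y
  rw [inv_inv] at this
  exact this.symm

theorem le_normalizer_of_map_le [Finite G] {X Y : Subgroup G}
    (h : ∀ g ∈ Y, X.map (MulAut.conj g).toMonoidHom ≤ X) : Y ≤ normalizer (X : Set G) := by
  intro g hg
  have key : ∀ g ∈ Y, ∀ x ∈ X, g * x * g⁻¹ ∈ X := fun g hg x hx => h g hg ⟨x, hx, rfl⟩
  rw [mem_normalizer_iff]
  intro x
  refine ⟨key g hg x, fun h => ?_⟩
  have := key g⁻¹ (inv_mem hg) _ h
  have e : g⁻¹ * (g * x * g⁻¹) * g⁻¹⁻¹ = x := by group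
  rwa [e] at this

theorem normalizer_le_normalizer_EE [Finite G] (X : Subgroup G) :
    normalizer (X : Set G) ≤ normalizer (EE X : Set G) := by
  refine le_normalizer_of_map_le fun g hg => ?_
  have h1 := map_EE X (MulAut.conj g)
  rw [map_conj_eq_of_mem hg] at h1
  exact h1.le

/-- A subgroup normalizing all components normalizes the layer. -/
theorem le_normalizer_EE_of_forall [Finite G] {X Y : Subgroup G}
    (h : ∀ K, IsComp X K → Y ≤ normalizer (K : Set G)) : Y ≤ normalizer (EE X : Set G) := by
  refine le_normalizer_of_map_le fun g hg => ?_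
  rw [map_le_iff_le_comap, EE_le_iff]
  intro K hK
  rw [← map_le_iff_le_comap, map_conj_eq_of_mem (h K hK hg)]
  exact hK.le_EE

end Cfsg.Agent.H429.Comp
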