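import Mathlib
import Cfsg.Prelude.Def_Solvable
import Cfsg.Agent.Solvable.FrobeniusKernel
import Cfsg.Agent.Solvable.SZ
import Cfsg.Agent.S0029
import Cfsg.Agent.S0035
import Cfsg.Agent.S0042
import Cfsg.Agent.Lib.FrattiniBasic

/-!
# Frobenius quotients and element orders
-/

set_option autoImplicit false
set_option linter.unusedSectionVars false

namespace Cfsg.Agent.H429.FrobQuot

open Subgroup
open Cfsg.Agent.Solvable.FrobeniusKernel
open scoped Pointwise

theorem bijective_out_mul {A : Type*} [Group A] (B : Subgroup A) :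
    Function.Bijective (fun y : (A ⧸ B) × B => y.1.out * (y.2 : A)) := by
  constructor
  · rintro ⟨q, x⟩ ⟨q', x'⟩ h
    change q.out * (x : A) = q'.out * (x' : A) at h
    have h1 : q = q' := by
      have h2 := congrArg (QuotientGroup.mk (s := B)) h
      rwa [QuotientGroup.mk_mul_of_mem _ x.2, QuotientGroup.mk_mul_of_mem _ x'.2,
        QuotientGroup.out_eq', QuotientGroup.out_eq'] at h2
    subst h1
    have h3 : (x : A) = x' := mul_left_cancel h
    rw [Subtype.ext h3]
  · intro a
    refine ⟨((a : A ⧸ B), ⟨(a : A ⧸ B).out⁻¹ * a, ?_⟩), ?_⟩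
    · rw [← QuotientGroup.eq, QuotientGroup.out_eq']
    · change (a : A ⧸ B).out * ((a : A ⧸ B).out⁻¹ * a) = a
      group

/-- The partition argument, for a complement all of whose traces are trivial. -/
theorem pow_index_eq_prod {A V : Type*} [Group A] [Finite A] [Fintype A] [CommGroup V] (φ : A →* MulAut V)
    (B N : Subgroup A) (hB : Cfsg.IsFrobeniusComplement B) [Fintype B] [Fintype N]
    (hN : (N : Set A) = Cfsg.frobeniusKernel B)
    (hB1 : ∀ w : V, ∏ x : B, φ (x : A) w = 1) (v : V) :
    v ^ B.index = ∏ n : N, φ (n : A) v := by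
  classical
  have hall : ∏ a : A, φ a v = 1 := by
    have h1 : ∀ q : A ⧸ B, ∏ x : B, φ (q.out * (x : A)) v = 1 := by
      intro q
      have h2 : ∀ x : B, φ (q.out * (x : A)) v = φ q.out (φ (x : A) v) := by
        intro x
        rw [map_mul]; rfl
      rw [Finset.prod_congr rfl (fun x _ => h2 x), ← map_prod, hB1, map_one]
    rw [← (bijective_out_mul B).prod_comp (fun a : A => φ a v), Fintype.prod_prod_type,
      Finset.prod_congr rfl (fun q _ => h1 q), Finset.prod_const_one]
  have hBprod : ∀ w : V, ∏ x : {x : A // x ∈ B ∧ x ≠ 1}, φ (x : A) w = w⁻¹ := by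
    intro w
    have h1 := hB1 w
    rw [← Finset.prod_subtype (Finset.univ.filter (· ∈ B)) (by simp) (fun x : A => φ x w),
      ← Finset.prod_erase_mul _ _ (a := (1 : A)) (by simp), map_one] at h1
    rw [← Finset.prod_subtype ((Finset.univ.filter (· ∈ B)).erase 1)
      (by intro x; simp [and_comm]) (fun x : A => φ x w)]
    exact eq_inv_of_mul_eq_one_left h1
  -- the product over the elements outside of `N`
  have hout : ∏ x : {x : A // ¬ x ∈ N}, φ (x : A) v = (v ^ B.index)⁻¹ := by
    have hset : ∀ x : A, x ∉ N ↔ x ∈ (Cfsg.frobeniusKernel B)ᶜ := by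
      intro x
      rw [← hN]; rfl
    rw [← Finset.prod_subtype (Finset.univ.filter (· ∉ N)) (by simp) (fun x : A => φ x v),
      Finset.prod_subtype (p := (· ∈ (Cfsg.frobeniusKernel B)ᶜ)) (Finset.univ.filter (· ∉ N))
        (by intro x; simp only [Finset.mem_filter, Finset.mem_univ, true_and]; exact hset x)
        (fun x : A => φ x v)]
    rw [← (bijective_out B hB).prod_comp (fun x : ((Cfsg.frobeniusKernel B)ᶜ : Set A) => φ (x : A) v)]
    rw [Fintype.prod_prod_type]
    have hq : ∀ q : A ⧸ B, ∏ x : {x : A // x ∈ B ∧ x ≠ 1}, φ (q.out * (x : A) * (q.out)⁻¹) v = v⁻¹ := by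
      intro q
      have h2 : ∀ x : {x : A // x ∈ B ∧ x ≠ 1}, φ (q.out * (x : A) * (q.out)⁻¹) v =
          φ q.out (φ (x : A) (φ (q.out)⁻¹ v)) := by
        intro x
        rw [map_mul, map_mul]; rfl
      rw [Finset.prod_congr rfl (fun x _ => h2 x), ← map_prod, hBprod, map_inv, ← MulAut.mul_apply,
        ← map_mul, mul_inv_cancel, map_one]
      rfl
    rw [Finset.prod_congr rfl (fun q _ => hq q), Finset.prod_const, Finset.card_univ,
      Subgroup.index, Nat.card_eq_fintype_card, inv_pow]
  have hsplit := Fintype.prod_subtype_mul_prod_subtype (fun x : A => x ∈ N) (fun x : A => φ x v)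
  rw [hall, hout] at hsplit
  rw [mul_inv_eq_one] at hsplit
  rw [← hsplit]
  exact Finset.prod_congr (by ext; simp) fun _ _ => rfl

/-- The kernel fixes all elements if moreover its order is prime to the order of the element. -/
theorem fixed_of_prod_eq_one {A V : Type*} [Group A] [Finite A] [CommGroup V] [Finite V]
    (φ : A →* MulAut V) (B N : Subgroup A) (hB : Cfsg.IsFrobeniusComplement B) [Fintype B]
    (hN : (N : Set A) = Cfsg.frobeniusKernel B)
    (hB1 : ∀ w : V, ∏ x : B, φ (x : A) w = 1) (hcop : (Nat.card N).Coprime (Nat.card V))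
    {n : A} (hn : n ∈ N) (v : V) : φ n v = v := by
  classical
  cases nonempty_fintype A
  have hidx : B.index = Nat.card N := by
    rw [← card_kernel hB, ← hN]; rfl
  have h1 := pow_index_eq_prod φ B N hB hN hB1 v
  have h2 : φ n (v ^ B.index) = v ^ B.index := by
    rw [h1, map_prod]
    refine Eq.trans ?_ (Equiv.prod_comp (Equiv.mulLeft (⟨n, hn⟩ : N)) (fun x : N => φ (x : A) v))
    refine Finset.prod_congr rfl fun x _ => ?_
    rw [← MulAut.mul_apply, ← map_mul]
    rfl
  rw [map_pow, hidx] at h2
  have h3 : (Nat.card V).Coprime (Nat.card N) := hcop.symm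
  exact (powCoprime h3).injective h2

/-- The action on the abelianization. -/
noncomputable def abAct {A P : Type*} [Group A] [Group P] (φ : A →* MulAut P) :
    A →* MulAut (Abelianization P) where
  toFun a := MulEquiv.abelianizationCongr (φ a)
  map_one' := by
    rw [map_one]
    ext x
    induction x using QuotientGroup.induction_on with | H x => rfl
  map_mul' a b := by
    rw [map_mul]
    ext x
    induction x using QuotientGroup.induction_on with | H x => rfl

theorem abAct_of {A P : Type*} [Group A] [Group P] (φ : A →* MulAut P) (a : A) (x : P) :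
    abAct φ a (Abelianization.of x) = Abelianization.of (φ a x) := rfl

/-- The trace of a cyclic group. -/
theorem prod_zpowers {A P : Type*} [Group A] [Finite A] [Group P] (φ : A →* MulAut P) (η : A)
    [Fintype (zpowers η)] (v : P) (w : ℕ → P) (h0 : w 0 = 1)
    (hw : ∀ k, w (k + 1) = w k * φ (η ^ k) v) :
    ∏ x : zpowers η, abAct φ (x : A) (Abelianization.of v) = Abelianization.of (w (orderOf η)) := by
  have h1 : ∀ k, Abelianization.of (w k) =
      ∏ i ∈ Finset.range k, abAct φ (η ^ i) (Abelianization.of v) := by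
    intro k
    induction k with
    | zero => rw [h0, map_one, Finset.prod_range_zero]
    | succ k ih => rw [hw, map_mul, ih, Finset.prod_range_succ, abAct_of]
  rw [h1, ← Fin.prod_univ_eq_prod_range (fun i => abAct φ (η ^ i) (Abelianization.of v)),
    ← (finEquivZPowers (isOfFinOrder_of_finite η)).prod_comp
      (fun x : zpowers η => abAct φ (x : A) (Abelianization.of v))]
  rfl

/-- A Frobenius group with cyclic complement generated by `η` acting on a `p`-group `P`, such that `(v η) ^ n = 1` for
all `v ∈ P`: the kernel centralizes `P`. -/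
theorem mem_centralizer_of_pow_eq_one {G A : Type*} [Group G] [Finite G] [Group A] [Finite A]
    (σ : A →* G) (η : A) (hB : Cfsg.IsFrobeniusComplement (zpowers η)) (K : Subgroup A)
    (hK : (K : Set A) = Cfsg.frobeniusKernel (zpowers η)) (p : ℕ) [Fact p.Prime] (P : Subgroup G)
    (hP : IsPGroup p P) (hσ : ∀ a, σ a ∈ normalizer (P : Set G)) (hcop : (Nat.card K).Coprime p)
    (hη : ∀ v ∈ P, (v * σ η) ^ orderOf η = 1) {a : A} (ha : a ∈ K) :
    σ a ∈ centralizer (P : Set G) := by
  classical
  cases nonempty_fintype A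
  set φ : A →* MulAut P := P.normalizerMonoidHom.comp (σ.codRestrict _ hσ) with hφ
  have hφa : ∀ (a : A) (x : P), ((φ a x : P) : G) = σ a * x * (σ a)⁻¹ := fun a x => rfl
  obtain ⟨m, hm⟩ := IsPGroup.iff_card.mp hP
  have hcV : Nat.card (Abelianization P) ∣ Nat.card P :=
    Subgroup.card_quotient_dvd_card _
  have hcop' : (Nat.card K).Coprime (Nat.card (Abelianization P)) := by
    refine Nat.Coprime.coprime_dvd_right hcV ?_
    rw [hm]
    exact Nat.Coprime.pow_right m hcop
  have htr : ∀ w : Abelianization P, ∏ x : zpowers η, abAct φ (x : A) w = 1 := by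
    intro w
    induction w using QuotientGroup.induction_on with
    | H v =>
    have hmem : ∀ k : ℕ, ((v : G) * σ η) ^ k * (σ η ^ k)⁻¹ ∈ P := by
      intro k
      induction k with
      | zero => simp
      | succ k ih =>
        have e : ((v : G) * σ η) ^ (k + 1) * (σ η ^ (k + 1))⁻¹ =
            (((v : G) * σ η) ^ k * (σ η ^ k)⁻¹) * (σ (η ^ k) * v * (σ (η ^ k))⁻¹) := by
          rw [map_pow]
          rw [pow_succ, pow_succ]
          group
        rw [e]
        exact P.mul_mem ih ((mem_normalizer_iff.mp (hσ (η ^ k)) _).mp v.2)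
    have h1 := prod_zpowers φ η v (fun k => ⟨_, hmem k⟩) (by ext; simp) (by
      intro k
      apply Subtype.ext
      rw [coe_mul, hφa, map_pow]
      change ((v : G) * σ η) ^ (k + 1) * (σ η ^ (k + 1))⁻¹ =
        (((v : G) * σ η) ^ k * (σ η ^ k)⁻¹) * _
      rw [pow_succ, pow_succ]
      group)
    refine h1.trans ?_
    have h2 := hη v v.2
    have h3 := hη 1 P.one_mem
    rw [one_mul] at h3
    have h4 : (⟨_, hmem (orderOf η)⟩ : P) = 1 := by
      apply Subtype.ext
      change ((v : G) * σ η) ^ (orderOf η) * (σ η ^ (orderOf η))⁻¹ = 1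
      rw [h2, h3]; simp
    change Abelianization.of (⟨_, hmem (orderOf η)⟩ : P) = 1
    rw [h4, map_one]
  have hfix : ∀ (b : A), b ∈ K → ∀ w : Abelianization P, abAct φ b w = w := fun b hb w =>
    fixed_of_prod_eq_one (abAct φ) (zpowers η) K hB hK htr hcop' hb w
  have hle : K.map σ ≤ centralizer (P : Set G) := by
    refine Cfsg.Agent.S0029.result (K.map σ) P ?_ ?_ ?_
    · rintro _ ⟨b, -, rfl⟩
      exact hσ b
    · have h1 : Nat.card (frattini P) ∣ Nat.card P := card_subgroup_dvd_card _
      refine Nat.Coprime.coprime_dvd_left (card_map_dvd K σ) (Nat.Coprime.coprime_dvd_right h1 ?_)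
      rw [hm]
      exact Nat.Coprime.pow_right m hcop
    · rintro _ ⟨b, hb, rfl⟩ x hx
      have h1 := hfix b hb (Abelianization.of ⟨x, hx⟩)
      rw [abAct_of] at h1
      have h2 : φ b ⟨x, hx⟩ * (⟨x, hx⟩ : P)⁻¹ ∈ commutator P := by
        have h3 : Abelianization.of (φ b ⟨x, hx⟩ * (⟨x, hx⟩ : P)⁻¹) = 1 := by
          rw [map_mul, map_inv, h1, mul_inv_cancel]
        exact (QuotientGroup.eq_one_iff _).mp h3
      exact ⟨_, Cfsg.Agent.Lib.FrattiniBasic.commutator_le_frattini hP h2, rfl⟩
  exact hle (mem_map_of_mem σ ha)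

end Cfsg.Agent.H429.FrobQuot
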