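import Mathlib
import Cfsg.Agent.H484.CritFinal
import Cfsg.Agent.OrdDiv.Table
import Cfsg.Agent.H934.OutB
import Cfsg.Agent.S0254
import Cfsg.Agent.S2119
import Cfsg.Agent.S2060
import Cfsg.Agent.S2061
import Cfsg.Agent.S2062
import Cfsg.Agent.S2063
import Cfsg.Agent.S2064
import Cfsg.Agent.S2065
import Cfsg.Agent.S2066
import Cfsg.Agent.S2067
import Cfsg.Agent.S2068
import Cfsg.Agent.S2069
import Cfsg.Agent.S2070
import Cfsg.Agent.S2071
import Cfsg.Agent.S2072
import Cfsg.Agent.S2073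
import Cfsg.Agent.S2074
import Cfsg.Agent.S2075
import Cfsg.Agent.S2076
import Cfsg.Agent.S2077
import Cfsg.Agent.S2078
import Cfsg.Agent.S2079
import Cfsg.Agent.S2080
import Cfsg.Agent.S2081
import Cfsg.Agent.S2082
import Cfsg.Agent.S2083
import Cfsg.Agent.S2084
import Cfsg.Agent.S2085
import Cfsg.Agent.TitsK.Model
import Cfsg.Agent.TitsK.Inst
import Cfsg.Agent.TitsK.SheetT

/-!
# The primes `p ≥ 5` dividing `|Out S|` are small (helper429)

If `S` is a known nonabelian finite simple group and `p ≥ 5` is a prime divisor of `|Out S|`, then some prime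
`q ≥ 2 p + 1` divides `|S|`.
-/

set_option autoImplicit false

namespace Cfsg.Agent.H429.OutPrime

open Subgroup Cfsg Cfsg.Agent.H484.SylNorm

universe u v

/-- there is a prime divisor `q ≥ 2 p + 1` of `N` -/
def Big (N p : ℕ) : Prop := ∃ q : ℕ, q.Prime ∧ q ∣ N ∧ 2 * p + 1 ≤ q

/-- every prime divisor `p ≥ 5` of `|Out X|` is small -/
def OutP (X : Type*) [Group X] : Prop :=
  ∀ p : ℕ, p.Prime → 5 ≤ p → p ∣ (MulAut.conj : X →* MulAut X).range.index → Big (Nat.card X) p

theorem OutP.congr {K : Type u} [Group K] {X : Type v} [Group X] (e : K ≃* X) (h : OutP X) : OutP K := by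
  intro p hp h5 hd
  rw [Cfsg.Agent.H55.OutGen.index_range_conj_congr e] at hd
  obtain ⟨q, hq, h1, h2⟩ := h p hp h5 hd
  exact ⟨q, hq, by rwa [Nat.card_congr e.toEquiv], h2⟩

theorem OutP.of_small {X : Type u} [Group X] (h0 : 0 < (MulAut.conj : X →* MulAut X).range.index)
    (h : (MulAut.conj : X →* MulAut X).range.index ≤ 4) : OutP X := by
  intro p _ h5 hd
  have := Nat.le_of_dvd h0 hd
  omega

theorem exists_zs' {r f e : ℕ} (hr : r.Prime) (hf : 1 ≤ f) (h3 : 3 ≤ f * e)
    (h6 : ¬ (r = 2 ∧ f * e = 6)) : ∃ p, Zs (r ^ f) f e p ∧ f * e ∣ p - 1 := by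
  obtain ⟨p, hp, hord⟩ := Cfsg.Agent.Lib.Zsigmondy.exists_prime_orderOf (a := r) (n := f * e) hr.two_le
    (by omega) (by intro h; omega) h6
  have := Fact.mk hp
  have hpr : ¬ p ∣ r := by
    intro h
    rw [← ZMod.natCast_eq_zero_iff] at h
    have h1 := pow_orderOf_eq_one ((r : ZMod p))
    rw [hord, h, zero_pow (by omega)] at h1
    exact zero_ne_one h1
  have hdvd := Cfsg.Agent.Lib.Zsigmondy.orderOf_dvd_pred hp hpr
  rw [hord] at hdvd
  have hle : f * e ≤ p - 1 := Nat.le_of_dvd (by have := hp.two_le; omega) hdvd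
  refine ⟨p, ⟨hp, ?_, ?_, ?_⟩, hdvd⟩
  · have h4 : p ≠ 4 := by
      rintro rfl
      norm_num at hp
    omega
  · intro h
    have h1 := Nat.le_of_dvd (by omega) h
    have h2 : f ≤ f * e := Nat.le_mul_of_pos_right f (Nat.pos_of_ne_zero (by rintro rfl; omega))
    omega
  · intro j
    rw [← pow_mul, Cfsg.Agent.Lib.Zsigmondy.dvd_pow_sub_one_iff hr.pos, hord]
    constructor
    · intro h
      exact Nat.dvd_of_mul_dvd_mul_left (by omega) h
    · intro h
      exact Nat.mul_dvd_mul_left f h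

/-- the general engine: `p ∣ f * e` -/
theorem big_of {N r f e p : ℕ} (hr : r.Prime) (hf : 1 ≤ f) (he : 1 ≤ e) (hp : p.Prime) (h5 : 5 ≤ p)
    (hpf : p ∣ f * e) (h : ∀ s, Zs (r ^ f) f e s → s ∣ N) : Big N p := by
  have hpos : 0 < f * e := Nat.mul_pos hf he
  have hle := Nat.le_of_dvd hpos hpf
  obtain ⟨s, hs, hd⟩ := exists_zs' (r := r) (f := f) (e := e) hr hf (by omega) (by
    rintro ⟨-, h6⟩
    rw [h6] at hpf
    have h7 : p ∣ 2 * 3 := hpf
    rw [hp.dvd_mul] at h7
    rcases h7 with h7 | h7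
    · have := Nat.le_of_dvd (by norm_num) h7
      omega
    · have := Nat.le_of_dvd (by norm_num) h7
      omega)
  refine ⟨s, hs.prime, h s hs, ?_⟩
  have hs5 := hs.five
  have hodd : 2 ∣ s - 1 := by
    rcases hs.prime.eq_two_or_odd with h7 | h7
    · omega
    · omega
  have h8 : Nat.Coprime 2 p := by
    rw [Nat.coprime_primes Nat.prime_two hp]
    omega
  have h9 : 2 * p ∣ s - 1 := h8.mul_dvd_of_dvd_of_dvd hodd (hpf.trans hd)
  have := Nat.le_of_dvd (by omega) h9
  omega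

theorem big_f {N r f : ℕ} (e : ℕ) {p : ℕ} (hr : r.Prime) (hf : 1 ≤ f) (he : 1 ≤ e) (hp : p.Prime) (h5 : 5 ≤ p)
    (hpf : p ∣ f) (h : ∀ s, Zs (r ^ f) f e s → s ∣ N) : Big N p :=
  big_of hr hf he hp h5 (Dvd.dvd.mul_right hpf e) h

/-- a prime `p ≥ 5` does not divide small numbers -/
theorem ndvd_small {p n : ℕ} (h5 : 5 ≤ p) (h0 : 0 < n) (hn : n ≤ 4) : ¬ p ∣ n := by
  intro h
  have := Nat.le_of_dvd h0 h
  omega

theorem ndvd_eight {p : ℕ} (hp : p.Prime) (h5 : 5 ≤ p) : ¬ p ∣ 8 := by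
  intro h
  have h2 : p ∣ 2 ^ 3 := h
  exact ndvd_small h5 two_pos (by norm_num) (hp.dvd_of_dvd_pow h2)

theorem ndvd_gcd {p a b : ℕ} (h5 : 5 ≤ p) (h0 : 0 < a) (ha : a ≤ 4) : ¬ p ∣ Nat.gcd a b := fun h =>
  ndvd_small h5 h0 ha (h.trans (Nat.gcd_dvd_left _ _))

/-! ### Classical groups -/

section

variable {F : Type*} [Field F] [Fintype F]

theorem outP_psl {n : ℕ} (hn : 2 ≤ n) (hn2 : n = 2 → 4 ≤ Fintype.card F)
    (_ : Finite (Matrix.ProjectiveSpecialLinearGroup (Fin n) F))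
    (hc : center (Matrix.ProjectiveSpecialLinearGroup (Fin n) F) = ⊥) :
    OutP (Matrix.ProjectiveSpecialLinearGroup (Fin n) F) := by
  obtain ⟨r, f, hr, hf, hF⟩ := exists_card F
  have := Fact.mk hr
  have haut := S0813.result r f hf hF n hn (by rwa [← hF])
  rw [card_pgl hn, ← mul_assoc] at haut
  rw [hF] at haut
  intro p hp h5 hd
  rw [index_of_card hc haut, hp.dvd_mul, hp.dvd_mul] at hd
  rcases hd with (hd | hd) | hd
  · exfalso
    split_ifs at hd
    · exact ndvd_small h5 one_pos (by norm_num) hd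
    · exact ndvd_small h5 two_pos (by norm_num) hd
  · exact big_f 2 hr hf (by norm_num) hp h5 hd fun s hs => dvd_psl hn hn le_rfl (hF ▸ hs)
  · have hpn : p ≤ n := Nat.le_of_dvd (by omega) (hd.trans (Nat.gcd_dvd_left _ _))
    exact big_of (e := p) hr hf (by omega) hp h5 (Dvd.intro_left f rfl) fun s hs =>
      dvd_psl hn hpn (by omega) (hF ▸ hs)

theorem outP_psp {m : ℕ} (hm : 2 ≤ m) (hm2 : m = 2 → 3 ≤ Fintype.card F) (_ : Finite (Cfsg.PSp m F))
    (hc : center (Cfsg.PSp m F) = ⊥) : OutP (Cfsg.PSp m F) := by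
  obtain ⟨r, f, hr, hf, hF⟩ := exists_card F
  have := Fact.mk hr
  have haut := S0814.result r f hf hF m hm (by rwa [← hF])
  have h1 := S0245.result (F := F) hF m
  have h2 := S0246.result (F := F) hF m (by omega)
  have h3 := Subgroup.card_eq_card_quotient_mul_card_subgroup (center (Matrix.symplecticGroup (Fin m) F))
  rw [h1, h2] at h3
  intro p hp h5 hd
  rw [index_of_card hc haut, hp.dvd_mul, hp.dvd_mul] at hd
  rcases hd with (hd | hd) | hd
  · exfalso
    split_ifs at hd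
    · exact ndvd_small h5 two_pos (by norm_num) hd
    · exact ndvd_small h5 one_pos (by norm_num) hd
  · exact absurd hd (ndvd_gcd h5 two_pos (by norm_num))
  · refine big_f 4 hr hf (by norm_num) hp h5 hd fun s h => ?_
    have h4 : s ∣ Nat.gcd 2 (r ^ f - 1) * Nat.card (Cfsg.PSp m F) := by
      rw [mul_comm]
      change s ∣ Nat.card (Matrix.symplecticGroup (Fin m) F ⧸ center (Matrix.symplecticGroup (Fin m) F)) * _
      rw [← h3]
      apply Dvd.dvd.mul_left
      exact ((h.iff 4).mpr dvd_rfl).trans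
        (Finset.dvd_prod_of_mem (fun i => (r ^ f) ^ (2 * (i + 1)) - 1) (Finset.mem_range.mpr (by omega : 1 < m)))
    exact h.dvd_of_mul (h.not_dvd_gcd (by norm_num) 2) h4

theorem outP_psu {n q : ℕ} (hF : Fintype.card F = q ^ 2) (hn : 3 ≤ n) (hn2 : ¬ (n = 3 ∧ q = 2))
    (_ : Finite (Cfsg.PSU n F q)) (hc : center (Cfsg.PSU n F q) = ⊥) : OutP (Cfsg.PSU n F q) := by
  have hq2 : IsPrimePow (q ^ 2) := hF ▸ Fintype.isPrimePow_card_of_field
  have hqp : IsPrimePow q := (isPrimePow_pow_iff (by norm_num)).1 hq2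
  obtain ⟨r, f, hr, hf, hq⟩ := (isPrimePow_nat_iff _).mp hqp
  have := Fact.mk hr
  have haut := S0815.result (F := F) r f hf hq.symm hF n hn hn2
  have h1 := S0280.result hF n (by omega)
  have key : ∀ e s, 3 ≤ e → Zs q f e s → s ∣ ∏ i ∈ Finset.range n,
      (if Even i then q ^ (i + 1) + 1 else q ^ (i + 1) - 1) → s ∣ Nat.card (Cfsg.PSU n F q) := by
    intro e s he h hd
    refine h.dvd_of_mul (h.not_dvd_succ he) (h.dvd_of_mul (h.not_dvd_gcd' he n) ?_)
    rw [h1]
    exact Dvd.dvd.mul_left hd _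
  intro p hp h5 hd
  rw [index_of_card hc haut, hp.dvd_mul, hp.dvd_mul] at hd
  rcases hd with hd | hd | hd
  · -- `p ∣ gcd n (q + 1)`
    have hpn : p ≤ n := Nat.le_of_dvd (by omega) (hd.trans (Nat.gcd_dvd_left _ _))
    refine big_of (e := 2 * p) hr hf (by omega) hp h5 (Dvd.intro_left (f * 2) (by ring)) fun s hs => ?_
    rw [hq] at hs
    refine key (2 * p) s (by omega) hs ?_
    refine (hs.dvd_add (j := p) ?_ dvd_rfl).trans ?_
    · intro h7
      have := Nat.le_of_dvd (by omega) h7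
      omega
    · have hev : Even (p - 1) := by
        rcases hp.eq_two_or_odd with h7 | h7
        · omega
        · exact ⟨(p - 1) / 2, by omega⟩
      have h8 := Finset.dvd_prod_of_mem (fun i => if Even i then q ^ (i + 1) + 1 else q ^ (i + 1) - 1)
        (Finset.mem_range.mpr (by omega : p - 1 < n))
      have h9 : p - 1 + 1 = p := by omega
      simpa [hev, h9] using h8
  · exact absurd hd (ndvd_small h5 two_pos (by norm_num))
  · rcases Nat.lt_or_ge n 4 with h4 | h4
    · obtain rfl : n = 3 := by omega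
      refine big_f 6 hr hf (by norm_num) hp h5 hd fun s h => ?_
      rw [hq] at h
      refine key 6 s (by norm_num) h ?_
      refine (h.dvd_add (j := 3) (by norm_num) (by norm_num)).trans ?_
      exact Finset.dvd_prod_of_mem (fun i => if Even i then q ^ (i + 1) + 1 else q ^ (i + 1) - 1)
        (Finset.mem_range.mpr (by norm_num : 2 < 3))
    · refine big_f 4 hr hf (by norm_num) hp h5 hd fun s h => ?_
      rw [hq] at h
      refine key 4 s (by norm_num) h ?_
      have h5 := Finset.dvd_prod_of_mem (fun i => if Even i then q ^ (i + 1) + 1 else q ^ (i + 1) - 1)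
        (Finset.mem_range.mpr (by omega : 3 < n))
      refine ((h.iff 4).mpr dvd_rfl).trans ?_
      have h6 : ¬ Even 3 := by decide
      simpa [h6] using h5

theorem outP_oodd {m : ℕ} (hm : 3 ≤ m) (ho : Odd (Fintype.card F))
    (_ : Finite (Cfsg.POmega F (Cfsg.quadFormOdd m F))) (hc : center (Cfsg.POmega F (Cfsg.quadFormOdd m F)) = ⊥) :
    OutP (Cfsg.POmega F (Cfsg.quadFormOdd m F)) := by
  obtain ⟨r, f, hr, hf, hF⟩ := exists_card F
  have := Fact.mk hr
  have hro : Odd r := by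
    rw [hF] at ho
    exact (Nat.odd_pow_iff (by omega)).mp ho
  have haut := S0816.result (F := F) r f hf hF hro m hm
  have h1 := S0292.result (F := F) rfl ho m hm
  rw [hF] at h1
  intro p hp h5 hd
  rw [index_of_card hc haut, hp.dvd_mul] at hd
  rcases hd with hd | hd
  · exact absurd hd (ndvd_small h5 two_pos (by norm_num))
  refine big_f 4 hr hf (by norm_num) hp h5 hd fun s h => ?_
  refine h.dvd_of_mul (h.not_dvd_of_le two_pos (by norm_num)) ?_
  rw [h1]
  apply Dvd.dvd.mul_left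
  exact ((h.iff 4).mpr dvd_rfl).trans
    (Finset.dvd_prod_of_mem (fun i => (r ^ f) ^ (2 * (i + 1)) - 1) (Finset.mem_range.mpr (by omega : 1 < m)))

theorem outP_oplus {m : ℕ} (hm : 4 ≤ m)
    (_ : Finite (Cfsg.POmega F (Cfsg.quadFormPlus m F))) (hc : center (Cfsg.POmega F (Cfsg.quadFormPlus m F)) = ⊥) :
    OutP (Cfsg.POmega F (Cfsg.quadFormPlus m F)) := by
  obtain ⟨r, f, hr, hf, hF⟩ := exists_card F
  have := Fact.mk hr
  have haut := S0817.result (F := F) r f hf hF m hm
  have h1 := S0293.result (F := F) rfl m hm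
  rw [hF] at h1
  intro p hp h5 hd
  rw [index_of_card hc haut, hp.dvd_mul, hp.dvd_mul] at hd
  rcases hd with (hd | hd) | hd
  · exfalso
    split_ifs at hd
    · exact ndvd_small h5 (by norm_num) (by norm_num) hd
    · exact ndvd_small h5 (by norm_num) (by norm_num) hd
  · exfalso
    split_ifs at hd
    · exact ndvd_small h5 (by norm_num) (by norm_num) hd
    · exact ndvd_eight hp h5 hd
    · exact ndvd_small h5 (by norm_num) (by norm_num) hd
  refine big_f 4 hr hf (by norm_num) hp h5 hd fun s h => ?_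
  have h2 : ¬ s ∣ Nat.gcd 4 ((r ^ f) ^ m - 1) := fun h2 =>
    h.not_dvd_of_le (by norm_num : 0 < 4) le_rfl (h2.trans (Nat.gcd_dvd_left _ _))
  refine h.dvd_of_mul h2 ?_
  rw [h1]
  apply Dvd.dvd.mul_left
  exact ((h.iff 4).mpr dvd_rfl).trans
    (Finset.dvd_prod_of_mem (fun i => (r ^ f) ^ (2 * (i + 1)) - 1) (Finset.mem_range.mpr (by omega : 1 < m - 1)))

theorem outP_ominus {m : ℕ} (hm : 4 ≤ m) {a b : F}
    (hab : ∀ z₁ z₂ : F, z₁ ^ 2 + a * z₁ * z₂ + b * z₂ ^ 2 = 0 → z₁ = 0 ∧ z₂ = 0)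
    (_ : Finite (Cfsg.POmega F (Cfsg.quadFormMinus (m - 1) F a b)))
    (hc : center (Cfsg.POmega F (Cfsg.quadFormMinus (m - 1) F a b)) = ⊥) :
    OutP (Cfsg.POmega F (Cfsg.quadFormMinus (m - 1) F a b)) := by
  obtain ⟨r, f, hr, hf, hF⟩ := exists_card F
  have := Fact.mk hr
  have haut := S0818.result (F := F) r f hf hF m hm a b hab
  have h1 := S0294.result (F := F) rfl m hm a b hab
  rw [hF] at h1
  intro p hp h5 hd
  rw [index_of_card hc haut, hp.dvd_mul] at hd
  rcases hd with hd | hd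
  · exfalso
    split_ifs at hd
    · exact ndvd_small h5 (by norm_num) (by norm_num) hd
    · exact ndvd_small h5 (by norm_num) (by norm_num) hd
    · exact ndvd_eight hp h5 hd
  refine big_f 4 hr hf (by norm_num) hp h5 hd fun s h => ?_
  have h2 : ¬ s ∣ Nat.gcd 4 ((r ^ f) ^ m + 1) := fun h2 =>
    h.not_dvd_of_le (by norm_num : 0 < 4) le_rfl (h2.trans (Nat.gcd_dvd_left _ _))
  refine h.dvd_of_mul h2 ?_
  rw [h1]
  apply Dvd.dvd.mul_left
  exact ((h.iff 4).mpr dvd_rfl).trans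
    (Finset.dvd_prod_of_mem (fun i => (r ^ f) ^ (2 * (i + 1)) - 1) (Finset.mem_range.mpr (by omega : 1 < m - 1)))

end

/-- from a model -/
theorem of_model {K : Type u} [Group K] [Finite K] (hK : IsSimpleGroup K) (hna : ¬ ∀ a b : K, a * b = b * a)
    {X : Type v} [Group X] (e : K ≃* X) (h : Finite X → center X = ⊥ → OutP X) : OutP K := by
  have hX : IsSimpleGroup X := e.symm.isSimpleGroup
  refine OutP.congr e (h (Finite.of_equiv K e.toEquiv) ?_)
  rcases (inferInstance : (center X).Normal).eq_bot_or_eq_top with h1 | h1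
  · exact h1
  · exfalso
    apply hna
    intro a b
    apply e.injective
    rw [map_mul, map_mul]
    have h2 : e b ∈ center X := by rw [h1]; trivial
    exact mem_center_iff.mp h2 (e a)

/-! ### Alternating and sporadic groups -/

theorem small {K : Type u} [Group K] [Finite K] {X : Type v} [Group X]
    (h : Nat.card (Cfsg.Out X) ≤ 4) (e : Nonempty (K ≃* X)) : OutP K := by
  obtain ⟨e⟩ := e
  have h1 : (MulAut.conj : K →* MulAut K).range.index ≤ 4 := by
    rw [Cfsg.Agent.H55.OutGen.index_range_conj_congr e]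
    exact h
  exact OutP.of_small (Nat.pos_of_ne_zero Subgroup.index_ne_zero_of_finite) h1

theorem outP_alt {K : Type u} [Group K] [Finite K] (hK : IsSimpleGroup K) (hna : ¬ ∀ a b : K, a * b = b * a)
    {n : ℕ} (hn : 5 ≤ n) (e : K ≃* ↥(alternatingGroup (Fin n))) : OutP K := by
  rcases eq_or_ne n 6 with rfl | h6
  · haveI : Fact (Nat.Prime 3) := ⟨by norm_num⟩
    haveI : Fintype (GaloisField 3 2) := Fintype.ofFinite _
    have hF : Fintype.card (GaloisField 3 2) = 9 := by
      rw [← Nat.card_eq_fintype_card, GaloisField.card 3 2 (by norm_num)]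
      norm_num
    obtain ⟨e'⟩ := Cfsg.Agent.S0254.result hF
    exact of_model hK hna (e.trans e'.symm) (outP_psl le_rfl fun _ => by rw [hF]; norm_num)
  · refine of_model hK hna e fun _ hc => ?_
    haveI : Nontrivial (Fin n) := Fin.nontrivial_iff_two_le.2 (by omega)
    have h1 := Nat.card_congr (Equiv.ofBijective _ (Cfsg.Agent.S2119.result n (by omega) h6))
    have h2 : Nat.card (MulAut ↥(alternatingGroup (Fin n))) = 2 * Nat.card ↥(alternatingGroup (Fin n)) := by
      rw [← h1, Nat.card_eq_fintype_card, Nat.card_eq_fintype_card, two_mul_card_alternatingGroup]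
    have h3 := index_of_card hc h2
    exact OutP.of_small (by rw [h3]; norm_num) (by rw [h3]; norm_num)

theorem outP_tits {K : Type u} [Group K] [Finite K] (h : Cfsg.Lie.IsoTits K) : OutP K := by
  obtain ⟨e⟩ := h
  obtain ⟨e'⟩ := Cfsg.Agent.TitsK.exists_equiv
  have hfin : Finite Cfsg.Agent.FourTwo.Base.LL := by infer_instance
  have h1 : Nat.card (Cfsg.Out ↥Cfsg.Agent.TitsK.TT) ∣ 2 := Cfsg.Agent.TitsK.tdata.index_inn
  exact small ((Nat.le_of_dvd (by norm_num) h1).trans (by norm_num)) ⟨e.trans e'⟩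

theorem outP_sporadic {K : Type u} [Group K] [Finite K] (h : Cfsg.IsSporadicGroup K) : OutP K := by
  rcases h with h | h | h | h | h | h | h | h | h | h | h | h | h | h | h | h | h | h | h | h | h | h | h | h | h | h
  · exact small (by rw [Cfsg.Agent.S2060.result]; norm_num) h
  · exact small (by rw [Cfsg.Agent.S2061.result]; norm_num) h
  · exact small (by rw [Cfsg.Agent.S2062.result]; norm_num) h
  · exact small (by rw [Cfsg.Agent.S2063.result]; norm_num) h
  · exact small (by rw [Cfsg.Agent.S2064.result]; norm_num) h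
  · exact small (by rw [Cfsg.Agent.S2065.result]; norm_num) h
  · exact small (by rw [Cfsg.Agent.S2066.result]; norm_num) h
  · obtain ⟨F, _, _, ω, hF, hω, e⟩ := h
    exact small (by rw [Cfsg.Agent.S2067.result hF ω hω]; norm_num) e
  · exact small (by rw [Cfsg.Agent.S2068.result]; norm_num) h
  · exact small (by rw [Cfsg.Agent.S2069.result]; norm_num) h
  · exact small (by rw [Cfsg.Agent.S2070.result]; norm_num) h
  · exact small (by rw [Cfsg.Agent.S2071.result]; norm_num) h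
  · exact small (by rw [Cfsg.Agent.S2073.result]; norm_num) h
  · exact small (by rw [Cfsg.Agent.S2072.result]; norm_num) h
  · exact small (by rw [Cfsg.Agent.S2074.result]; norm_num) h
  · exact small (by rw [Cfsg.Agent.S2075.result]; norm_num) h
  · exact small (by rw [Cfsg.Agent.S2077.result]; norm_num) h
  · exact small (by rw [Cfsg.Agent.S2078.result]; norm_num) h
  · exact small (by rw [Cfsg.Agent.S2076.result]; norm_num) h
  · exact small (by rw [Cfsg.Agent.S2079.result]; norm_num) h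
  · exact small (by rw [Cfsg.Agent.S2080.result]; norm_num) h
  · exact small (by rw [Cfsg.Agent.S2081.result]; norm_num) h
  · exact small (by rw [Cfsg.Agent.S2082.result]; norm_num) h
  · exact small (by rw [Cfsg.Agent.S2083.result]; norm_num) h
  · exact small (by rw [Cfsg.Agent.S2084.result]; norm_num) h
  · exact small (by rw [Cfsg.Agent.S2085.result]; norm_num) h

/-! ### Exceptional groups -/

/-- `|Out|` as a hypothesis -/
theorem outP_of_out {X : Type*} [Group X] {n : ℕ} (ho : Nat.card (Cfsg.Out X) = n)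
    (h : ∀ p : ℕ, p.Prime → 5 ≤ p → p ∣ n → Big (Nat.card X) p) : OutP X := by
  intro p hp h5 hd
  refine h p hp h5 ?_
  rw [← ho]
  exact hd

theorem outP_g2 (F : Type) [Field F] [Fintype F] (h3 : 3 ≤ Fintype.card F) : OutP ↥(Lie.chevG2.group F) := by
  obtain ⟨r, f, hr, hc, hf, hF⟩ := exists_char F
  have hcard := (Cfsg.Agent.OrdDiv.table.{0}).g2 F
  rw [hF] at hcard
  refine outP_of_out (outTable.g2 F r f hF (hF ▸ h3)) fun p hp h5 hd => ?_
  have hpf : p ∣ f := by
    split_ifs at hd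
    · rw [hp.dvd_mul] at hd
      exact hd.resolve_left (ndvd_small h5 two_pos (by norm_num))
    · exact hd
  refine big_f 6 hr.out hf (by norm_num) hp h5 hpf fun s h => ?_
  rw [hcard]
  exact Dvd.dvd.mul_left ((h.iff 6).mpr dvd_rfl) _

theorem outP_f4 (F : Type) [Field F] [Fintype F] : OutP ↥(Lie.chevF4.group F) := by
  obtain ⟨r, f, hr, hc, hf, hF⟩ := exists_char F
  have hcard := (Cfsg.Agent.OrdDiv.table.{0}).f4 F _ hF
  refine outP_of_out (outTable.f4 F r f hF) fun p hp h5 hd => ?_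
  rw [hp.dvd_mul] at hd
  refine big_f 4 hr.out hf (by norm_num) hp h5 (hd.resolve_left (ndvd_gcd h5 two_pos (by norm_num))) fun s h => ?_
  rw [hcard]
  exact Dvd.dvd.mul_right (Dvd.dvd.mul_left ((h.iff 8).mpr (by norm_num)) _) _

theorem outP_e6 (F : Type) [Field F] [Fintype F] : OutP ↥(Lie.chevE6.group F) := by
  obtain ⟨r, f, hr, hc, hf, hF⟩ := exists_char F
  have hcard := (Cfsg.Agent.OrdDiv.table.{0}).e6 F _ hF
  refine outP_of_out (outTable.e6 F r f hF) fun p hp h5 hd => ?_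
  rw [hp.dvd_mul, hp.dvd_mul] at hd
  have hpf : p ∣ f := by
    rcases hd with (hd | hd) | hd
    · exact absurd hd (ndvd_small h5 two_pos (by norm_num))
    · exact absurd hd (ndvd_gcd h5 (by norm_num) (by norm_num))
    · exact hd
  refine big_f 4 hr.out hf (by norm_num) hp h5 hpf fun s h => ?_
  refine h.dvd_of_mul (h.not_dvd_gcd (by norm_num) 3) ?_
  rw [hcard]
  exact Dvd.dvd.mul_right (Dvd.dvd.mul_right (Dvd.dvd.mul_left ((h.iff 8).mpr (by norm_num)) _) _) _

theorem outP_e7 (F : Type) [Field F] [Fintype F] : OutP ↥(Lie.chevE7.group F) := by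
  obtain ⟨r, f, hr, hc, hf, hF⟩ := exists_char F
  have hcard := (Cfsg.Agent.OrdDiv.table.{0}).e7 F _ hF
  refine outP_of_out (outTable.e7 F r f hF) fun p hp h5 hd => ?_
  rw [hp.dvd_mul] at hd
  refine big_f 4 hr.out hf (by norm_num) hp h5 (hd.resolve_left (ndvd_gcd h5 two_pos (by norm_num))) fun s h => ?_
  refine h.dvd_of_mul (h.not_dvd_gcd (by norm_num) 2) ?_
  rw [hcard]
  exact Dvd.dvd.mul_right (Dvd.dvd.mul_right (Dvd.dvd.mul_right (Dvd.dvd.mul_right
    (Dvd.dvd.mul_left ((h.iff 8).mpr (by norm_num)) _) _) _) _) _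

theorem outP_e8 (F : Type) [Field F] [Fintype F] : OutP ↥(Lie.chevE8.group F) := by
  obtain ⟨r, f, hr, hc, hf, hF⟩ := exists_char F
  have hcard := (Cfsg.Agent.OrdDiv.table.{0}).e8 F _ hF
  refine outP_of_out (outTable.e8 F r f hF) fun p hp h5 hd => ?_
  refine big_f 4 hr.out hf (by norm_num) hp h5 hd fun s h => ?_
  rw [hcard]
  exact Dvd.dvd.mul_right (Dvd.dvd.mul_right (Dvd.dvd.mul_right (Dvd.dvd.mul_right (Dvd.dvd.mul_right
    (Dvd.dvd.mul_right (Dvd.dvd.mul_left ((h.iff 8).mpr (by norm_num)) _) _) _) _) _) _) _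

theorem outP_te6 (K : Type) [Field K] [Fintype K] (q : ℕ) (hq : IsPrimePow q) (hK : Fintype.card K = q ^ 2) :
    OutP ↥(Lie.twistedE6 K q) := by
  obtain ⟨r, f, hr, hc, hf, hF⟩ := exists_char K
  obtain ⟨r', f', hr', hf', rfl⟩ := (isPrimePow_nat_iff _).mp hq
  have hrr : r' = r := by
    have h1 : r' ∣ r ^ f := by
      rw [← hF, hK, ← pow_mul]
      exact dvd_pow_self _ (by omega)
    exact (Nat.prime_dvd_prime_iff_eq hr' hr.out).mp (hr'.dvd_of_dvd_pow h1)
  subst hrr
  have hcard := (Cfsg.Agent.OrdDiv.table.{0}).te6 K (r' ^ f') hq hK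
  refine outP_of_out (outTable.te6 K r' f' (by rw [hK, ← pow_mul, mul_comm]) hf') fun p hp h5 hd => ?_
  rw [hp.dvd_mul, hp.dvd_mul] at hd
  have hpf : p ∣ f' := by
    rcases hd with (hd | hd) | hd
    · exact absurd hd (ndvd_small h5 two_pos (by norm_num))
    · exact absurd hd (ndvd_gcd h5 (by norm_num) (by norm_num))
    · exact hd
  refine big_f 4 hr' hf' (by norm_num) hp h5 hpf fun s h => ?_
  refine h.dvd_of_mul (h.not_dvd_gcd' (by norm_num) 3) ?_
  rw [hcard]
  exact Dvd.dvd.mul_right (Dvd.dvd.mul_right (Dvd.dvd.mul_left ((h.iff 8).mpr (by norm_num)) _) _) _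

theorem outP_td4 (K : Type) [Field K] [Fintype K] (q : ℕ) (hq : IsPrimePow q) (hK : Fintype.card K = q ^ 3) :
    OutP ↥(Lie.twistedD4 K q) := by
  obtain ⟨r, f, hr, hc, hf, hF⟩ := exists_char K
  obtain ⟨r', f', hr', hf', rfl⟩ := (isPrimePow_nat_iff _).mp hq
  have hrr : r' = r := by
    have h1 : r' ∣ r ^ f := by
      rw [← hF, hK, ← pow_mul]
      exact dvd_pow_self _ (by omega)
    exact (Nat.prime_dvd_prime_iff_eq hr' hr.out).mp (hr'.dvd_of_dvd_pow h1)
  subst hrr
  have hcard := (Cfsg.Agent.OrdDiv.table.{0}).td4 K (r' ^ f') hq hK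
  refine outP_of_out (outTable.td4 K r' f' (by rw [hK, ← pow_mul, mul_comm]) hf') fun p hp h5 hd => ?_
  rw [hp.dvd_mul] at hd
  refine big_f 12 hr' hf' (by norm_num) hp h5 (hd.resolve_left (ndvd_small h5 (by norm_num) (by norm_num)))
    fun s h => ?_
  rw [hcard]
  apply Dvd.dvd.mul_left
  have h1 : s ∣ (r' ^ f') ^ 12 - 1 := (h.iff 12).mpr dvd_rfl
  have h2 : ∀ x : ℕ, x ^ 12 - 1 = (x ^ 4 - 1) * (x ^ 8 + x ^ 4 + 1) := by
    intro x
    rcases Nat.eq_zero_or_pos x with rfl | hx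
    · norm_num
    · have h3 : 1 ≤ x ^ 4 := Nat.one_le_pow _ _ hx
      have h4 : 1 ≤ x ^ 12 := Nat.one_le_pow _ _ hx
      zify [h3, h4]
      ring
  rw [h2, h.prime.dvd_mul] at h1
  rcases h1 with h1 | h1
  · exact absurd ((h.iff 4).mp h1) (by norm_num)
  · exact h1

theorem outP_sz (F : Type) [Field F] [Fintype F] (m : ℕ) (hm : 1 ≤ m) (hF : Fintype.card F = 2 ^ (2 * m + 1)) :
    OutP ↥(Lie.Sz F (2 ^ (m + 1))) := by
  have hcard := (Cfsg.Agent.OrdDiv.table.{0}).sz F m hm hF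
  refine outP_of_out (outTable.sz F m hm hF) fun p hp h5 hd => ?_
  refine big_f 4 Nat.prime_two (by omega) (by norm_num) hp h5 hd fun s h => ?_
  rw [hcard]
  exact Dvd.dvd.mul_left (h.dvd_add (by norm_num) (by norm_num)) _

theorem outP_ree (F : Type) [Field F] [Fintype F] (m : ℕ) (hm : 1 ≤ m) (hF : Fintype.card F = 3 ^ (2 * m + 1)) :
    OutP ↥(Lie.twistedG2 F (3 ^ m)) := by
  have hcard := (Cfsg.Agent.OrdDiv.table.{0}).ree F m hm hF
  refine outP_of_out (outTable.ree F m hm hF) fun p hp h5 hd => ?_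
  refine big_f 6 Nat.prime_three (by omega) (by norm_num) hp h5 hd fun s h => ?_
  rw [hcard]
  exact Dvd.dvd.mul_left (h.dvd_add (by norm_num) (by norm_num)) _

theorem outP_tf4 (F : Type) [Field F] [Fintype F] (m : ℕ) (hm : 1 ≤ m) (hF : Fintype.card F = 2 ^ (2 * m + 1)) :
    OutP ↥(Lie.twistedF4 F (2 ^ m)) := by
  have hcard := (Cfsg.Agent.OrdDiv.table.{0}).tf4 F m hm hF
  refine outP_of_out (outTable.tf4 F m hm hF) fun p hp h5 hd => ?_
  refine big_f 4 Nat.prime_two (by omega) (by norm_num) hp h5 hd fun s h => ?_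
  rw [hcard]
  exact Dvd.dvd.mul_right (Dvd.dvd.mul_left ((h.iff 4).mpr dvd_rfl) _) _

/-- **The prime divisors of `|Out K|` for the known simple groups** -/
theorem outP_known {K : Type u} [Group K] [Finite K] (hk : IsKnownSimple' K) (hK : IsSimpleGroup K)
    (hna : ¬ ∀ a b : K, a * b = b * a) : OutP K := by
  rcases hk with h | h | h | h | h | h | h | h | h | h
  · exfalso
    have : Fact (Nat.card K).Prime := ⟨h⟩
    have : IsCyclic K := isCyclic_of_prime_card (p := Nat.card K) rfl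
    exact hna fun a b => (IsCyclic.isMulCommutative (α := K)).is_comm.comm a b
  · obtain ⟨n, hn, ⟨e⟩⟩ := h
    exact outP_alt hK hna hn e
  · obtain ⟨F, _, _, n, hn, hn2, ⟨e⟩⟩ := h
    exact of_model hK hna e (outP_psl hn hn2)
  · obtain ⟨F, _, _, n, hn, hn2, ⟨e⟩⟩ := h
    exact of_model hK hna e (outP_psp hn hn2)
  · obtain ⟨F, _, _, n, q, hF, hn, hn2, ⟨e⟩⟩ := h
    exact of_model hK hna e (outP_psu hF hn hn2)
  · obtain ⟨F, _, _, n, hn, ho, ⟨e⟩⟩ := h
    exact of_model hK hna e (outP_oodd hn ho)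
  · obtain ⟨F, _, _, n, hn, ⟨e⟩⟩ := h
    exact of_model hK hna e (outP_oplus hn)
  · obtain ⟨F, _, _, n, a, b, hn, hab, ⟨e⟩⟩ := h
    exact of_model hK hna e (outP_ominus hn hab)
  · rcases h with h | h | h | h | h | h | h | h | h | h | h
    · obtain ⟨F, _, _, hq, ⟨e⟩⟩ := h
      exact OutP.congr e (outP_g2 F hq)
    · obtain ⟨F, _, _, ⟨e⟩⟩ := h
      exact OutP.congr e (outP_f4 F)
    · obtain ⟨F, _, _, ⟨e⟩⟩ := h
      exact OutP.congr e (outP_e6 F)
    · obtain ⟨F, _, _, ⟨e⟩⟩ := h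
      exact OutP.congr e (outP_e7 F)
    · obtain ⟨F, _, _, ⟨e⟩⟩ := h
      exact OutP.congr e (outP_e8 F)
    · obtain ⟨F, _, _, q, hq, hF, ⟨e⟩⟩ := h
      exact OutP.congr e (outP_te6 F q hq hF)
    · obtain ⟨F, _, _, q, hq, hF, ⟨e⟩⟩ := h
      exact OutP.congr e (outP_td4 F q hq hF)
    · obtain ⟨F, _, _, m, hm, hF, ⟨e⟩⟩ := h
      exact OutP.congr e (outP_sz F m hm hF)
    · obtain ⟨F, _, _, m, hm, hF, ⟨e⟩⟩ := h
      exact OutP.congr e (outP_ree F m hm hF)
    · obtain ⟨F, _, _, m, hm, hF, ⟨e⟩⟩ := h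
      exact OutP.congr e (outP_tf4 F m hm hF)
    · exact outP_tits h
  · exact outP_sporadic h

/-- **Lemma F.** -/
theorem out_prime {Q : Type u} [Group Q] [Finite Q]
    (hcl : ∀ (T : Type u) [Group T] [Finite T] [IsSimpleGroup T], IsKnownSimple' T)
    (S : Subgroup Q) [S.Normal] (hS : IsSimpleGroup ↥S) (hna : ¬ IsMulCommutative ↥S)
    (hC : Subgroup.centralizer (S : Set Q) = ⊥) {p : ℕ} (hp : p.Prime) (h5 : 5 ≤ p) (hd : p ∣ S.index) :
    ∃ q : ℕ, q.Prime ∧ q ∣ Nat.card ↥S ∧ 2 * p + 1 ≤ q := by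
  have hna' : ¬ ∀ a b : ↥S, a * b = b * a := fun h => hna ⟨⟨h⟩⟩
  refine outP_known (hcl ↥S) hS hna' p hp h5 (hd.trans ?_)
  -- `Q` embeds in `Aut S`
  have hker : (MulAut.conjNormal : Q →* MulAut ↥S).ker = ⊥ := by
    rw [eq_bot_iff, ← hC]
    intro g hg
    rw [MonoidHom.mem_ker] at hg
    rw [mem_centralizer_iff]
    intro s hs
    have h1 := DFunLike.congr_fun hg ⟨s, hs⟩
    have h2 := congrArg Subtype.val h1
    rw [MulAut.conjNormal_apply, MulAut.one_apply] at h2
    exact (mul_inv_eq_iff_eq_mul.mp h2).symm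
  have hmap : S.map (MulAut.conjNormal : Q →* MulAut ↥S) = (MulAut.conj : ↥S →* MulAut ↥S).range := by
    ext φ
    constructor
    · rintro ⟨s, hs, rfl⟩
      refine ⟨⟨s, hs⟩, ?_⟩
      ext y
      simp [MulAut.conjNormal_apply]
    · rintro ⟨s, rfl⟩
      refine ⟨s, s.2, ?_⟩
      ext y
      simp [MulAut.conjNormal_apply]
  have hinj : Function.Injective (MulAut.conjNormal : Q →* MulAut ↥S) := (MonoidHom.ker_eq_bot_iff _).mp hker
  have h1 : (S.map (MulAut.conjNormal : Q →* MulAut ↥S)).relIndex ((⊤ : Subgroup Q).map (MulAut.conjNormal : Q →* MulAut ↥S)) = S.index := by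
    rw [Subgroup.relIndex_map_map_of_injective _ _ hinj, Subgroup.relIndex_top_right]
  rw [← h1, hmap]
  have h2 : (MulAut.conj : ↥S →* MulAut ↥S).range ≤ (⊤ : Subgroup Q).map (MulAut.conjNormal : Q →* MulAut ↥S) := by
    rw [← hmap]
    exact Subgroup.map_mono le_top
  exact Dvd.intro _ (Subgroup.relIndex_mul_index h2)

end Cfsg.Agent.H429.OutPrime

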