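import Mathlib
import Cfsg.Agent.H429.Comp

/-!
# Pairs of maximal subgroups: triviality of a core
-/

set_option autoImplicit false
set_option linter.unusedSectionVars false

namespace Cfsg.Agent.H429.PairT

open Subgroup Cfsg
open Cfsg.Agent.H429.Comp

variable {G : Type*} [Group G] [Finite G]

structure Pair (A B C₁ C₂ T : Subgroup G) : Prop where
  nA : ∀ X : Subgroup G, X ≤ A → X ≠ ⊥ → A ≤ normalizer (X : Set G) → normalizer (X : Set G) ≤ A
  nB : ∀ X : Subgroup G, X ≤ B → X ≠ ⊥ → B ≤ normalizer (X : Set G) → normalizer (X : Set G) ≤ B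
  conj : ∃ g : G, A.map (MulAut.conj g).toMonoidHom = B
  ne : A ≠ B
  F : fittingSubgroup ↥(A ⊓ B) = ⊥
  C₁_le : C₁ ≤ A ⊓ B
  C₁_n : A ≤ normalizer (C₁ : Set G)
  C₂_le : C₂ ≤ A ⊓ B
  C₂_n : B ≤ normalizer (C₂ : Set G)
  core₂ : ∀ M : Subgroup G, M ≤ A ⊓ B → B ≤ normalizer (M : Set G) → M ≤ C₂
  T_le₁ : T ≤ C₁
  T_le₂ : T ≤ C₂
  T_n : A ≤ normalizer (T : Set G)
  trans : ∀ J, IsComp (A ⊓ B) J → J ≤ C₂ → ¬ J ≤ C₁ → ∃ N : Subgroup G,
    (∀ x ∈ A, ∃ n ∈ N, ∃ y ∈ A ⊓ B, x = n * y) ∧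
    ∀ K, IsComp C₁ K → N ≤ normalizer (K : Set G) ∧ (K ≤ C₂ → K ≤ T)
  uniq : ∀ J J', IsComp (A ⊓ B) J → IsComp (A ⊓ B) J' → ¬ J ≤ C₁ → ¬ J' ≤ C₁ → J = J'

variable {A B C₁ C₂ T : Subgroup G}

theorem Pair.card_eq (h : Pair A B C₁ C₂ T) : Nat.card A = Nat.card B := by
  obtain ⟨g, hg⟩ := h.conj
  rw [← hg, card_map_of_injective (MulAut.conj g).injective]

theorem Pair.false_of_normal (h : Pair A B C₁ C₂ T) {X : Subgroup G} (hX : X ≤ B)
    (h1 : X ≠ ⊥) (hA : A ≤ normalizer (X : Set G)) (hB : B ≤ normalizer (X : Set G)) : False :=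
  h.ne (eq_of_le_of_card_ge (hA.trans (h.nB X hX h1 hB)) h.card_eq.ge)

theorem Pair.false_of_EE_le (h : Pair A B C₁ C₂ T) (h1 : EE B ≤ EE A ∨ EE A ≤ EE B)
    (h2 : EE B ≠ ⊥) : False := by
  have hc : Nat.card (EE A) = Nat.card (EE B) := by
    obtain ⟨g, hg⟩ := h.conj
    have := map_EE A (MulAut.conj g)
    rw [hg] at this
    rw [← this, card_map_of_injective (MulAut.conj g).injective]
  have heq : EE B = EE A := by
    rcases h1 with h1 | h1
    · exact eq_of_le_of_card_ge h1 hc.le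
    · exact (eq_of_le_of_card_ge h1 hc.ge).symm
  refine h.false_of_normal (EE_le B) h2 ?_ (le_normalizer_EE B)
  rw [heq]
  exact le_normalizer_EE A

theorem Pair.T_eq_bot (h : Pair A B C₁ C₂ T) : T = ⊥ := by
  by_contra hT
  set D := A ⊓ B with hD
  have hDA : D ≤ A := inf_le_left
  have hDB : D ≤ B := inf_le_right
  have hTD : T ≤ D := h.T_le₁.trans h.C₁_le
  have hTA : T ≤ A := hTD.trans hDA
  have hC₂B : C₂ ≤ B := h.C₂_le.trans hDB
  have hC₁A : C₁ ≤ A := h.C₁_le.trans hDA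
  obtain ⟨K₀, hK₀D, hK₀T⟩ := exists_isComp h.F hTD (hDA.trans h.T_n) hT
  have hK₀ : IsComp T K₀ := hK₀D.of_le hK₀T hTD
  have hTcomp : ∀ K, IsComp T K → IsComp B K := fun K hK =>
    ((hK.of_normal hTD (hDA.trans h.T_n)).of_le (hK.le.trans h.T_le₂) h.C₂_le).of_normal hC₂B h.C₂_n
  have hTcomp' : ∀ K, IsComp T K → IsComp A K := fun K hK => hK.of_normal hTA h.T_n
  have hETne : EE T ≠ ⊥ := fun h1 => hK₀.ne_bot (le_bot_iff.mp (h1 ▸ hK₀.le_EE))
  have hEBne : EE B ≠ ⊥ := fun h1 => hK₀.ne_bot (le_bot_iff.mp (h1 ▸ (hTcomp K₀ hK₀).le_EE))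
  have hNET : normalizer (EE T : Set G) ≤ A :=
    h.nA _ ((EE_le T).trans hTA) hETne (h.T_n.trans (normalizer_le_normalizer_EE T))
  -- the layer of `B`
  have hEBA : EE B ≤ A := by
    rw [EE_le_iff]
    intro L hL
    exact (le_normalizer_EE_of_forall fun K hK => hL.le_normalizer (hTcomp K hK)).trans hNET
  have hEBD : EE B ≤ D := le_inf hEBA (EE_le B)
  have hEBC : EE B ≤ C₂ := h.core₂ _ hEBD (le_normalizer_EE B)
  have hBD : ∀ L, IsComp B L → IsComp D L := fun L hL => hL.of_le (hL.le_EE.trans hEBD) hDB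
  -- a component of `B` outside of `C₁`
  obtain ⟨J, hJ, hJC⟩ : ∃ J, IsComp B J ∧ ¬ J ≤ C₁ := by
    by_contra hcon
    push Not at hcon
    refine h.false_of_EE_le (Or.inl ?_) hEBne
    rw [EE_le_iff]
    intro L hL
    exact (((hBD L hL).of_le (hcon L hL) h.C₁_le).of_normal hC₁A h.C₁_n).le_EE
  obtain ⟨N, hND, hNK⟩ := h.trans J (hBD J hJ) (hJ.le_EE.trans hEBC) hJC
  have hrest : ∀ L, IsComp B L → L ≠ J → IsComp C₁ L ∧ L ≤ T := by
    intro L hL hne
    have h1 : L ≤ C₁ := by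
      by_contra hcon
      exact hne (h.uniq L J (hBD L hL) (hBD J hJ) hcon hJC)
    have h2 : IsComp C₁ L := (hBD L hL).of_le h1 h.C₁_le
    exact ⟨h2, (hNK L h2).2 (hL.le_EE.trans hEBC)⟩
  -- transitivity of `B` on its components
  have htrans : ∀ L, IsComp B L → ∃ g ∈ B, L = J.map (MulAut.conj g).toMonoidHom := by
    by_contra hcon
    push Not at hcon
    obtain ⟨L₀, hL₀, hL₀J⟩ := hcon
    set S : Set (Subgroup G) := {L | IsComp B L ∧ ∀ g ∈ B, L ≠ J.map (MulAut.conj g).toMonoidHom}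
      with hS
    have hSJ : ∀ L ∈ S, IsComp C₁ L ∧ L ≤ T := by
      rintro L ⟨hL1, hL2⟩
      refine hrest L hL1 ?_
      have := hL2 1 B.one_mem
      rw [map_one] at this
      intro h3
      apply this
      rw [h3]
      exact (Subgroup.map_id J).symm
    set X : Subgroup G := sSup S with hX
    have hXB : B ≤ normalizer (X : Set G) := by
      refine le_normalizer_of_map_le fun g hg => ?_
      rw [map_le_iff_le_comap, hX, sSup_le_iff]
      rintro L ⟨hL1, hL2⟩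
      rw [← map_le_iff_le_comap]
      refine le_sSup ⟨hL1.conj (le_normalizer hg), ?_⟩
      intro x hx h3
      apply hL2 (g⁻¹ * x) (B.mul_mem (B.inv_mem hg) hx)
      have h4 := congrArg (Subgroup.map (MulAut.conj g⁻¹).toMonoidHom) h3
      rw [map_map, map_map] at h4
      have h5 : (MulAut.conj g⁻¹).toMonoidHom.comp (MulAut.conj g).toMonoidHom = MonoidHom.id G := by
        ext y; simp [mul_assoc]
      have h6 : (MulAut.conj g⁻¹).toMonoidHom.comp (MulAut.conj x).toMonoidHom =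
          (MulAut.conj (g⁻¹ * x)).toMonoidHom := by
        ext y; simp [mul_assoc]
      rwa [h5, map_id, h6] at h4
    have hXN : N ≤ normalizer (X : Set G) := by
      refine le_normalizer_of_map_le fun g hg => ?_
      rw [map_le_iff_le_comap, hX, sSup_le_iff]
      intro L hL
      rw [← map_le_iff_le_comap]
      rw [map_conj_eq_of_mem ((hNK L (hSJ L hL).1).1 hg)]
      exact le_sSup hL
    have hXA : A ≤ normalizer (X : Set G) := by
      intro x hx
      obtain ⟨n, hn, y, hy, rfl⟩ := hND x hx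
      exact mul_mem (hXN hn) (hXB (hDB hy))
    have hL₀X : L₀ ≤ X := le_sSup ⟨hL₀, hL₀J⟩
    refine h.false_of_normal (X := X) ?_ ?_ hXA hXB
    · rw [hX, sSup_le_iff]
      rintro L ⟨hL1, -⟩
      exact hL1.le
    · intro h1
      rw [h1, le_bot_iff] at hL₀X
      exact hL₀.ne_bot hL₀X
  -- all components of `A` are in `T`
  refine h.false_of_EE_le (Or.inr ?_) hEBne
  rw [EE_le_iff]
  intro L hL
  obtain ⟨g, hg⟩ := h.conj
  have h1 : IsComp B (L.map (MulAut.conj g).toMonoidHom) := by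
    have := hL.map (MulAut.conj g)
    rwa [hg] at this
  have h2 : IsComp B (K₀.map (MulAut.conj g).toMonoidHom) := by
    have := (hTcomp' K₀ hK₀).map (MulAut.conj g)
    rwa [hg] at this
  obtain ⟨x, hx, hx1⟩ := htrans _ h1
  obtain ⟨y, hy, hy1⟩ := htrans _ h2
  -- `L` is the conjugate of `K₀` by `g⁻¹ x y⁻¹ g`
  have hz : g⁻¹ * (x * y⁻¹) * g ∈ A := by
    have h3 : x * y⁻¹ ∈ A.map (MulAut.conj g).toMonoidHom := by
      rw [hg]; exact B.mul_mem hx (B.inv_mem hy)
    obtain ⟨w, hw, hw1⟩ := h3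
    have h4 : g * w * g⁻¹ = x * y⁻¹ := hw1
    rw [← h4]
    have e : g⁻¹ * (g * w * g⁻¹) * g = w := by group
    rwa [e]
  have hLK : L = K₀.map (MulAut.conj (g⁻¹ * (x * y⁻¹) * g)).toMonoidHom := by
    have h3 : J = K₀.map (MulAut.conj (y⁻¹ * g)).toMonoidHom := by
      have h4 := congrArg (Subgroup.map (MulAut.conj y⁻¹).toMonoidHom) hy1
      rw [map_map, map_map] at h4
      have h5 : (MulAut.conj y⁻¹).toMonoidHom.comp (MulAut.conj y).toMonoidHom = MonoidHom.id G := by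
        ext w; simp [mul_assoc]
      have h6 : (MulAut.conj y⁻¹).toMonoidHom.comp (MulAut.conj g).toMonoidHom =
          (MulAut.conj (y⁻¹ * g)).toMonoidHom := by
        ext w; simp [mul_assoc]
      rw [h5, map_id, h6] at h4
      exact h4.symm
    have h4 : L = J.map (MulAut.conj (g⁻¹ * x)).toMonoidHom := by
      have h4 := congrArg (Subgroup.map (MulAut.conj g⁻¹).toMonoidHom) hx1
      rw [map_map, map_map] at h4
      have h5 : (MulAut.conj g⁻¹).toMonoidHom.comp (MulAut.conj g).toMonoidHom = MonoidHom.id G := by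
        ext w; simp [mul_assoc]
      have h6 : (MulAut.conj g⁻¹).toMonoidHom.comp (MulAut.conj x).toMonoidHom =
          (MulAut.conj (g⁻¹ * x)).toMonoidHom := by
        ext w; simp [mul_assoc]
      rwa [h5, map_id, h6] at h4
    rw [h4, h3, map_map]
    congr 1
    ext w
    simp [mul_assoc]
  have hLT : L ≤ T := by
    rw [hLK, ← map_conj_eq_of_mem (h.T_n hz)]
    exact map_mono hK₀T
  exact (hTcomp L (hL.of_le hLT hTA)).le_EE

end Cfsg.Agent.H429.PairT
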