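import Mathlib
import Cfsg.Agent.H429.RegCl2
import Cfsg.Agent.H429.RegExc
import Cfsg.Agent.H489.OutSpor

/-!
# The facts `RT` for all known simple groups (helper429, S3692)
-/

set_option autoImplicit false

namespace Cfsg.Agent.H429.Reg

open Subgroup Cfsg Cfsg.Agent.H484.SylNorm Cfsg.Agent.OrdDiv

universe u

/-- alternating groups -/
theorem rt_alt {n : ℕ} (hn : 5 ≤ n) (h6 : n ≠ 6) : RT ↥(alternatingGroup (Fin n)) := by
  obtain ⟨p, hp, h1, h2⟩ := Nat.exists_prime_lt_and_le_two_mul (n / 2) (by omega)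
  have hpn : p ≤ n := by omega
  have hn2 : n < 2 * p := by omega
  have hp3 : 3 ≤ p := by omega
  have := Fact.mk hp
  have hnt : Nontrivial (Fin n) := Fin.nontrivial_iff_two_le.2 (by omega)
  have hcard : 2 * Nat.card (alternatingGroup (Fin n)) = n.factorial := by
    rw [two_mul_nat_card_alternatingGroup, Nat.card_perm, Nat.card_fin]
  have ho : outI ↥(alternatingGroup (Fin n)) = 2 := Cfsg.Agent.H489.card_out_alt hn h6
  have hd : p ∣ Nat.card (alternatingGroup (Fin n)) := by
    have h3 : p ∣ 2 * Nat.card (alternatingGroup (Fin n)) := by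
      rw [hcard]; exact hp.dvd_factorial.mpr hpn
    rw [hp.dvd_mul] at h3
    rcases h3 with h3 | h3
    · have := Nat.le_of_dvd two_pos h3
      omega
    · exact h3
  refine rt_of hp hd (Cyc.of_sq hp ?_) ho ?_ hp (v := 1) le_rfl (by rwa [pow_one]) (by omega)
  · intro h3
    have h4 : p ^ 2 ∣ n.factorial := by
      rw [← hcard]; exact Dvd.dvd.mul_left h3 2
    have h5 : 2 ≤ n.factorial.factorization p :=
      (hp.pow_dvd_iff_le_factorization (Nat.factorial_ne_zero n)).mp h4
    rw [Nat.factorization_factorial hp (b := 2) (Nat.log_lt_of_lt_pow (by omega) (by nlinarith))] at h5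
    have h6 : n / p = 1 := by
      rw [Nat.div_eq_iff (by omega)]
      omega
    rw [show Finset.Ico 1 2 = {1} from rfl, Finset.sum_singleton, pow_one, h6] at h5
    omega
  · intro h3
    have := Nat.le_of_dvd two_pos h3
    omega

/-- sporadic groups and the Tits group -/
theorem rt_spor (T : OrderTable.{u}) {K : Type u} [Group K] [Finite K] (g : Grp)
    (hg : g ∈ spor.map fun x => x.1) (hK : Real g K) (ho : Nat.card (Cfsg.Out K) ≤ 2) : RT K := by
  obtain ⟨x, hx, rfl⟩ := List.mem_map.mp hg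
  have h1 := T.spor K x hx hK
  obtain ⟨p, hp, h2, h3⟩ := spor_prime x hx
  have hpp : p.Prime ∧ 5 ≤ p := by
    simp only [List.mem_cons, List.not_mem_nil, or_false] at hp
    rcases hp with rfl | rfl | rfl | rfl | rfl | rfl <;> norm_num
  have hd : p ∣ Nat.card K := by rw [h1]; exact Nat.dvd_of_mod_eq_zero h2
  have ho' : outI K ≤ 2 := ho
  refine rt_of hpp.1 hd (Cyc.of_sq hpp.1 ?_) rfl ?_ hpp.1 (v := 1) le_rfl (by rwa [pow_one]) (by omega)
  · rw [h1]
    intro h4
    exact h3 (Nat.mod_eq_zero_of_dvd h4)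
  · intro h4
    have h5 := Nat.le_of_dvd (outI_pos K) h4
    omega

/-- `PSL_n(q)` -/
theorem rt_isPSL {K : Type u} [Group K] [Finite K] (hK : IsSimpleGroup K) (hna : ¬ IsMulCommutative K)
    (h : IsPSL K) : RT K := by
  obtain ⟨F, _, _, n, hn, hn2, ⟨e⟩⟩ := h
  refine rt_of_model hK hna e fun hf hs hc => rt_psl hn hn2 hf hs ?_ hc
  intro h1
  apply hna
  refine ⟨⟨fun a b => e.injective ?_⟩⟩
  rw [map_mul, map_mul]
  exact h1.is_comm.comm _ _

theorem rt_isPSU {K : Type u} [Group K] [Finite K] (hK : IsSimpleGroup K) (hna : ¬ IsMulCommutative K)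
    (h : IsPSU K) : RT K := by
  obtain ⟨F, _, _, n, q, hF, hn, hn2, ⟨e⟩⟩ := h
  refine rt_of_model hK hna e fun hf hs hc => rt_psu hF hn hn2 hf hs ?_ hc
  intro h1
  apply hna
  refine ⟨⟨fun a b => e.injective ?_⟩⟩
  rw [map_mul, map_mul]
  exact h1.is_comm.comm _ _

/-- **The table** -/
theorem rt_known (T : OrderTable.{u}) (O : OutTable) {K : Type u} [Group K] [Finite K] (hk : IsKnownSimple' K)
    (hK : IsSimpleGroup K) (hna : ¬ IsMulCommutative K) : RT K := by
  have key : ∀ g, g ∈ (spor.map fun x => x.1) → Real g K → Nat.card (Cfsg.Out K) ≤ 2 → RT K :=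
    fun g hg hr ho => rt_spor T g hg hr ho
  rcases hk with h | h | h | h | h | h | h | h | h | h
  · exfalso
    have : Fact (Nat.card K).Prime := ⟨h⟩
    have : IsCyclic K := isCyclic_of_prime_card (p := Nat.card K) rfl
    exact hna IsCyclic.isMulCommutative
  · obtain ⟨n, hn, ⟨e⟩⟩ := h
    rcases eq_or_ne n 6 with rfl | h6
    · exact rt_isPSL hK hna (Cfsg.Agent.H489.isPSL_alt_six e)
    · exact RT.congr e (rt_alt hn h6)
  · exact rt_isPSL hK hna h
  · obtain ⟨F, _, _, n, hn, hn2, ⟨e⟩⟩ := h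
    exact rt_of_model hK hna e fun hf _ hc => rt_psp hn hn2 hf hc
  · exact rt_isPSU hK hna h
  · obtain ⟨F, _, _, n, hn, ho, ⟨e⟩⟩ := h
    exact rt_of_model hK hna e fun hf _ hc => rt_oodd hn ho hf hc
  · obtain ⟨F, _, _, n, hn, ⟨e⟩⟩ := h
    exact rt_of_model hK hna e fun hf _ hc => rt_oplus hn hf hc
  · obtain ⟨F, _, _, n, a, b, hn, hab, ⟨e⟩⟩ := h
    exact rt_of_model hK hna e fun hf _ hc => rt_ominus hn hab hf hc
  · rcases h with h | h | h | h | h | h | h | h | h | h | h
    · obtain ⟨F, _, _, hq, ⟨e⟩⟩ := h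
      exact RT.congr e (rt_g2 T O F hq)
    · obtain ⟨F, _, _, ⟨e⟩⟩ := h
      exact RT.congr e (rt_f4 T O F)
    · obtain ⟨F, _, _, ⟨e⟩⟩ := h
      exact RT.congr e (rt_e6 T O F)
    · obtain ⟨F, _, _, ⟨e⟩⟩ := h
      exact RT.congr e (rt_e7 T O F)
    · obtain ⟨F, _, _, ⟨e⟩⟩ := h
      exact RT.congr e (rt_e8 T O F)
    · obtain ⟨F, _, _, q, hq, hF, ⟨e⟩⟩ := h
      exact RT.congr e (rt_te6 T O F q hq hF)
    · obtain ⟨F, _, _, q, hq, hF, ⟨e⟩⟩ := h
      exact RT.congr e (rt_td4 T O F q hq hF)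
    · obtain ⟨F, _, _, m, hm, hF, ⟨e⟩⟩ := h
      exact RT.congr e (rt_sz T O F m hm hF)
    · obtain ⟨F, _, _, m, hm, hF, ⟨e⟩⟩ := h
      exact RT.congr e (rt_ree T O F m hm hF)
    · obtain ⟨F, _, _, m, hm, hF, ⟨e⟩⟩ := h
      exact RT.congr e (rt_tf4 T O F m hm hF)
    · exact key .tits (by decide) h (Cfsg.Agent.H489.card_out_tits h)
  · have ho := Cfsg.Agent.H489.card_out_sporadic h
    rcases h with h | h | h | h | h | h | h | h | h | h | h | h | h | h | h | h | h | h | h | h | h | h | h | h | h | h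
    · exact key .m11 (by decide) h ho
    · exact key .m12 (by decide) h ho
    · exact key .m22 (by decide) h ho
    · exact key .m23 (by decide) h ho
    · exact key .m24 (by decide) h ho
    · exact key .j1 (by decide) h ho
    · exact key .j2 (by decide) h ho
    · exact key .j3 (by decide) h ho
    · exact key .j4 (by decide) h ho
    · exact key .co1 (by decide) h ho
    · exact key .co2 (by decide) h ho
    · exact key .co3 (by decide) h ho
    · exact key .mcl (by decide) h ho
    · exact key .hs (by decide) h ho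
    · exact key .suz (by decide) h ho
    · exact key .he (by decide) h ho
    · exact key .ru (by decide) h ho
    · exact key .on (by decide) h ho
    · exact key .ly (by decide) h ho
    · exact key .fi22 (by decide) h ho
    · exact key .fi23 (by decide) h ho
    · exact key .fi24 (by decide) h ho
    · exact key .hn (by decide) h ho
    · exact key .th (by decide) h ho
    · exact key .b (by decide) h ho
    · exact key .m (by decide) h ho

end Cfsg.Agent.H429.Reg
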