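import Mathlib
import Cfsg.Agent.H429.AltLemmas
import Cfsg.Agent.H429.PairT
import Cfsg.Agent.H429.FittingFree

/-!
# Suborbits on which the stabiliser induces the alternating or the symmetric group
-/

set_option autoImplicit false
set_option linter.unusedSectionVars false

namespace Cfsg.Agent.H429.SubAlt

open Subgroup Cfsg MulAction
open Cfsg.Agent.H429.Suborbit Cfsg.Agent.H429.Comp Cfsg.Agent.H429.AltLemmas
open Cfsg.Agent.H429.PairT
open scoped Classical

noncomputable section

variable {G Ω : Type*} [Group G] [MulAction G Ω]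

/-- The action on the suborbit. -/
abbrev ph (a b : Ω) : stabilizer G a →* Equiv.Perm (orbit (stabilizer G a) b) :=
  toPermHom (stabilizer G a) (orbit (stabilizer G a) b)

/-- The point `b` of the suborbit. -/
abbrev pt (G : Type*) {Ω : Type*} [Group G] [MulAction G Ω] (a b : Ω) : orbit (stabilizer G a) b :=
  ⟨b, mem_orbit_self b⟩

theorem ph_apply (a b : Ω) (x : stabilizer G a) (c : orbit (stabilizer G a) b) :
    ((ph a b x c : orbit (stabilizer G a) b) : Ω) = (x : G) • (c : Ω) := rfl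

theorem mem_K_iff {a b : Ω} {x : G} (hx : x ∈ stabilizer G a) :
    x ∈ K a b ↔ ph a b ⟨x, hx⟩ = 1 := by
  rw [mem_K]
  constructor
  · rintro ⟨-, h⟩
    apply Equiv.ext
    intro c
    apply Subtype.ext
    exact h c c.2
  · intro h
    refine ⟨hx, fun c hc => ?_⟩
    have := congrArg (fun f : Equiv.Perm (orbit (stabilizer G a) b) =>
      ((f ⟨c, hc⟩ : orbit (stabilizer G a) b) : Ω)) h
    exact this

/-- The action of the two-point stabiliser on the rest of the suborbit. -/
def rho (a b : Ω) : ↥(stabilizer G a ⊓ stabilizer G b) →*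
    Equiv.Perm {y : orbit (stabilizer G a) b // y ≠ pt G a b} :=
  res ((ph a b).comp (inclusion inf_le_left)) (pt G a b) (fun x => Subtype.ext x.2.2)

theorem ofSubtype_rho (a b : Ω) (x : ↥(stabilizer G a ⊓ stabilizer G b)) :
    Equiv.Perm.ofSubtype (rho a b x) = ph (G := G) a b ⟨(x : G), (mem_inf.mp x.2).1⟩ :=
  ofSubtype_res _ _ _ x

theorem rho_eq_one_iff (a b : Ω) (x : ↥(stabilizer G a ⊓ stabilizer G b)) :
    rho a b x = 1 ↔ (x : G) ∈ K a b := by
  rw [mem_K_iff (G := G) (mem_inf.mp x.2).1, rho, res_eq_one_iff]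
  rfl

theorem ker_rho (a b : Ω) :
    (rho a b).ker = (K a b : Subgroup G).subgroupOf (stabilizer G a ⊓ stabilizer G b) := by
  ext x
  rw [MonoidHom.mem_ker, rho_eq_one_iff, mem_subgroupOf]

theorem K_le_inf (a b : Ω) : (K a b : Subgroup G) ≤ stabilizer G a ⊓ stabilizer G b :=
  le_inf (K_le_left a b) (K_le_right a b)

section fin

variable [Finite Ω]

instance instFintypeOrbit (a b : Ω) : Fintype (orbit (stabilizer G a) b) := Fintype.ofFinite _

theorem sign_rho (a b : Ω) (x : ↥(stabilizer G a ⊓ stabilizer G b)) :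
    Equiv.Perm.sign (rho a b x) = Equiv.Perm.sign (ph (G := G) a b ⟨(x : G), (mem_inf.mp x.2).1⟩) :=
  sign_res _ _ _ x

theorem card_rest (a b : Ω) : Nat.card {y : orbit (stabilizer G a) b // y ≠ pt G a b} =
    Nat.card (orbit (stabilizer G a) b) - 1 := by
  rw [Nat.card_eq_fintype_card, Nat.card_eq_fintype_card, Fintype.card_subtype_compl,
    Fintype.card_subtype_eq]

theorem alt_le_range_rho {a b : Ω} (h : alternatingGroup _ ≤ (ph (G := G) a b).range) :
    alternatingGroup _ ≤ (rho (G := G) a b).range := by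
  intro σ hσ
  have h1 : Equiv.Perm.ofSubtype σ ∈ alternatingGroup (orbit (stabilizer G a) b) := by
    rw [Equiv.Perm.mem_alternatingGroup, Equiv.Perm.sign_ofSubtype]
    exact Equiv.Perm.mem_alternatingGroup.mp hσ
  obtain ⟨x, hx⟩ := h h1
  have h2 : ph a b x (pt G a b) = pt G a b := by
    rw [hx]
    exact Equiv.Perm.ofSubtype_apply_of_not_mem _ (by simp)
  have h3 : (x : G) ∈ stabilizer G b := congrArg Subtype.val h2
  refine ⟨⟨x, x.2, h3⟩, ?_⟩
  apply Equiv.Perm.ofSubtype_injective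
  rw [ofSubtype_rho]
  exact hx

theorem Ind_eq (a b : Ω) : Ind G a b = (rho (G := G) a b).range.map Equiv.Perm.ofSubtype := by
  ext σ
  constructor
  · rintro ⟨x, hx, rfl⟩
    exact ⟨rho a b ⟨x, x.2, hx⟩, ⟨_, rfl⟩, ofSubtype_rho _ _ _⟩
  · rintro ⟨_, ⟨x, rfl⟩, rfl⟩
    rw [ofSubtype_rho]
    exact ⟨⟨x, x.2.1⟩, x.2.2, rfl⟩

theorem fitting_Ind {a b : Ω} (h6 : 6 ≤ Nat.card (orbit (stabilizer G a) b))
    (h : alternatingGroup _ ≤ (ph (G := G) a b).range) : fittingSubgroup (Ind G a b) = ⊥ := by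
  have h1 := fittingSubgroup_eq_bot (by rw [card_rest]; omega) (alt_le_range_rho h)
  have e := (rho (G := G) a b).range.equivMapOfInjective Equiv.Perm.ofSubtype
    Equiv.Perm.ofSubtype_injective
  have h2 := Cfsg.Agent.Lib.Cores.map_equiv_fittingSubgroup e
  rw [h1, Subgroup.map_bot] at h2
  rw [Ind_eq]
  exact h2.symm

end fin

section main

variable [Finite G] [FaithfulSMul G Ω] [Finite Ω]

/-- Uniqueness of the component outside of the kernel. -/
theorem uniq {a b : Ω} (h6 : 6 ≤ Nat.card (orbit (stabilizer G a) b))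
    (h : alternatingGroup _ ≤ (ph (G := G) a b).range) {J J' : Subgroup G}
    (hJ : IsComp (stabilizer G a ⊓ stabilizer G b) J) (hJ' : IsComp (stabilizer G a ⊓ stabilizer G b) J')
    (h1 : ¬ J ≤ K a b) (h2 : ¬ J' ≤ K a b) : J = J' := by
  rcases hJ'.eq_or hJ with h3 | h3
  · exact h3.symm
  exfalso
  set D := stabilizer G a ⊓ stabilizer G b with hD
  have h5 : 5 ≤ Nat.card {y : orbit (stabilizer G a) b // y ≠ pt G a b} := by
    rw [card_rest]; omega
  have hne : ∀ X : Subgroup G, X ≤ D → ¬ X ≤ K a b → (X.subgroupOf D).map (rho a b) ≠ ⊥ := by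
    intro X hX hXK h4
    apply hXK
    intro x hx
    rw [← rho_eq_one_iff a b ⟨x, hX hx⟩]
    have : rho a b ⟨x, hX hx⟩ ∈ (X.subgroupOf D).map (rho a b) := mem_map_of_mem _ hx
    rwa [h4, mem_bot] at this
  have hnorm : ∀ X Y : Subgroup G, X ≤ D → Y ≤ normalizer (X : Set G) →
      (Y.subgroupOf D).map (rho a b) ≤ normalizer (((X.subgroupOf D).map (rho a b) : Subgroup _) : Set _) := by
    intro X Y hX hY
    refine (map_mono ?_).trans (le_normalizer_map _)
    intro y hy
    rw [mem_normalizer_iff]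
    intro x
    exact mem_normalizer_iff.mp (hY hy) x
  have hE : alternatingGroup _ ≤ ((EE D).subgroupOf D).map (rho a b) := by
    apply alternatingGroup_le h5 (hne _ (EE_le D) fun h4 => h1 (hJ.le_EE.trans h4))
    refine (alt_le_range_rho h).trans ?_
    have := hnorm (EE D) D (EE_le D) (le_normalizer_EE D)
    rwa [subgroupOf_self, ← MonoidHom.range_eq_map] at this
  have hJn : EE D ≤ normalizer (J : Set G) := by
    rw [EE_le_iff]
    intro L hL
    exact hL.le_normalizer hJ
  have hJA : alternatingGroup _ ≤ (J.subgroupOf D).map (rho a b) :=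
    alternatingGroup_le h5 (hne J hJ.le h1) (hE.trans (hnorm J (EE D) hJ.le hJn))
  apply hne J' hJ'.le h2
  rw [eq_bot_iff, ← centralizer_alternatingGroup (by omega : 4 ≤ Nat.card {y : orbit (stabilizer G a) b // y ≠ pt G a b})]
  rintro _ ⟨x, hx, rfl⟩
  rw [mem_centralizer_iff]
  intro y hy
  obtain ⟨z, hz, rfl⟩ := hJA hy
  have h4 : z * x = x * z := by
    apply Subtype.ext
    exact mem_centralizer_iff.mp (h3 hx) z hz
  rw [← map_mul, ← map_mul, h4]

/-- The normal closure of `J` in `A`. -/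
def NJ (A J : Subgroup G) : Subgroup G :=
  sSup {L | ∃ x ∈ A, L = J.map (MulAut.conj x).toMonoidHom}

theorem NJ_le_iff {A J H : Subgroup G} :
    NJ A J ≤ H ↔ ∀ x ∈ A, J.map (MulAut.conj x).toMonoidHom ≤ H := by
  rw [NJ, sSup_le_iff]
  constructor
  · intro h x hx
    exact h _ ⟨x, hx, rfl⟩
  · rintro h _ ⟨x, hx, rfl⟩
    exact h x hx

theorem map_conj_le_NJ {A J : Subgroup G} {x : G} (hx : x ∈ A) :
    J.map (MulAut.conj x).toMonoidHom ≤ NJ A J := le_sSup ⟨x, hx, rfl⟩

theorem le_NJ (A J : Subgroup G) : J ≤ NJ A J := by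
  have := map_conj_le_NJ (A := A) (J := J) A.one_mem
  rw [map_one] at this
  intro x hx
  exact this ⟨x, hx, rfl⟩

theorem NJ_le {A J : Subgroup G} (h : J ≤ A) : NJ A J ≤ A := by
  rw [NJ_le_iff]
  rintro x hx _ ⟨y, hy, rfl⟩
  exact A.mul_mem (A.mul_mem hx (h hy)) (A.inv_mem hx)

theorem le_normalizer_NJ (A J : Subgroup G) : A ≤ normalizer (NJ A J : Set G) := by
  refine le_normalizer_of_map_le fun g hg => ?_
  rw [map_le_iff_le_comap, NJ_le_iff]
  intro x hx
  rw [← map_le_iff_le_comap, map_map]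
  have : (MulAut.conj g).toMonoidHom.comp (MulAut.conj x).toMonoidHom =
      (MulAut.conj (g * x)).toMonoidHom := by
    ext y; simp [mul_assoc]
  rw [this]
  exact map_conj_le_NJ (A.mul_mem hg hx)

/-- The image of a subgroup on the suborbit. -/
def im (a b : Ω) (X : Subgroup G) : Subgroup (Equiv.Perm (orbit (stabilizer G a) b)) :=
  (X.subgroupOf (stabilizer G a)).map (ph a b)

theorem im_ne_bot {a b : Ω} {X : Subgroup G} (hX : X ≤ stabilizer G a) (h : ¬ X ≤ K a b) :
    im a b X ≠ ⊥ := by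
  intro h1
  apply h
  intro x hx
  rw [mem_K_iff (hX hx)]
  have : ph a b ⟨x, hX hx⟩ ∈ im a b X := mem_map_of_mem _ hx
  rwa [h1, mem_bot] at this

theorem im_le_normalizer {a b : Ω} {X Y : Subgroup G} (h : Y ≤ normalizer (X : Set G)) :
    im a b Y ≤ normalizer (im a b X : Set (Equiv.Perm (orbit (stabilizer G a) b))) := by
  refine (map_mono ?_).trans (le_normalizer_map _)
  intro y hy
  rw [mem_normalizer_iff]
  intro x
  exact mem_normalizer_iff.mp (h hy) x

theorem im_top (a b : Ω) : im a b (stabilizer G a) = (ph a b).range := by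
  rw [im, subgroupOf_self, ← MonoidHom.range_eq_map]

/-- The image of a normal subgroup outside of the kernel contains the alternating group. -/
theorem alt_le_im {a b : Ω} (h6 : 6 ≤ Nat.card (orbit (stabilizer G a) b))
    (h : alternatingGroup _ ≤ (ph (G := G) a b).range) {X : Subgroup G} (hX : X ≤ stabilizer G a)
    (h1 : ¬ X ≤ K a b) (hn : stabilizer G a ≤ normalizer (X : Set G)) :
    alternatingGroup _ ≤ im a b X := by
  apply alternatingGroup_le (by omega) (im_ne_bot hX h1)
  refine h.trans ?_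
  rw [← im_top]
  exact im_le_normalizer hn

/-- Transitivity on the suborbit. -/
theorem exists_smul_of_alt_le {a b : Ω} (h6 : 6 ≤ Nat.card (orbit (stabilizer G a) b))
    {X : Subgroup G} (h : alternatingGroup _ ≤ im a b X) {c c' : Ω}
    (hc : c ∈ orbit (stabilizer G a) b) (hc' : c' ∈ orbit (stabilizer G a) b) :
    ∃ x ∈ X, x • c = c' := by
  have h1 := alternatingGroup.isPretransitive_of_three_le_card (orbit (stabilizer G a) b) (by omega)
  obtain ⟨⟨σ, hσ⟩, hσc⟩ := exists_smul_eq (alternatingGroup (orbit (stabilizer G a) b))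
    (⟨c, hc⟩ : orbit (stabilizer G a) b) ⟨c', hc'⟩
  obtain ⟨x, hx, hxσ⟩ := h hσ
  refine ⟨x, hx, ?_⟩
  have h2 : σ ⟨c, hc⟩ = ⟨c', hc'⟩ := hσc
  rw [← hxσ] at h2
  exact congrArg Subtype.val h2

theorem exists_mul {a b : Ω} (h6 : 6 ≤ Nat.card (orbit (stabilizer G a) b))
    {X : Subgroup G} (h : alternatingGroup _ ≤ im a b X) (hX : X ≤ stabilizer G a) {x : G}
    (hx : x ∈ stabilizer G a) :
    ∃ n ∈ X, ∃ y ∈ stabilizer G a ⊓ stabilizer G b, x = n * y := by
  obtain ⟨n, hn, hnx⟩ := exists_smul_of_alt_le h6 h (mem_orbit_self b)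
    (show x • b ∈ orbit (stabilizer G a) b from ⟨⟨x, hx⟩, rfl⟩)
  refine ⟨n, hn, n⁻¹ * x, mem_inf.mpr ⟨mul_mem (inv_mem (hX hn)) hx, ?_⟩, by group⟩
  rw [mem_stabilizer_iff, mul_smul, ← hnx, inv_smul_smul]

/-- The subgroup used in `PairT`. -/
theorem exists_trans {a b : Ω} (h6 : 6 ≤ Nat.card (orbit (stabilizer G a) b))
    (h : alternatingGroup _ ≤ (ph (G := G) a b).range) {J : Subgroup G}
    (hJ : IsComp (stabilizer G a ⊓ stabilizer G b) J) (h1 : ¬ J ≤ K a b) :
    ∃ N : Subgroup G,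
      (∀ x ∈ stabilizer G a, ∃ n ∈ N, ∃ y ∈ stabilizer G a ⊓ stabilizer G b, x = n * y) ∧
      ∀ L : Subgroup G, IsComp (K a b) L →
        N ≤ normalizer (L : Set G) ∧ (L ≤ K b a → L ≤ T a b) := by
  have hJA : J ≤ stabilizer G a := hJ.le.trans inf_le_left
  have hN : alternatingGroup _ ≤ im a b (NJ (stabilizer G a) J) :=
    alt_le_im h6 h (NJ_le hJA) (fun h2 => h1 ((le_NJ _ _).trans h2)) (le_normalizer_NJ _ _)
  refine ⟨NJ (stabilizer G a) J, fun x hx => exists_mul h6 hN (NJ_le hJA) hx, ?_⟩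
  intro L hL
  have hn : NJ (stabilizer G a) J ≤ normalizer (L : Set G) := by
    rw [NJ_le_iff]
    intro x hx
    have hc : x • b ∈ orbit (stabilizer G a) b := ⟨⟨x, hx⟩, rfl⟩
    have hK : (K a b : Subgroup G) ≤ stabilizer G a ⊓ stabilizer G (x • b) := by
      rw [← K_eq_of_mem hc]; exact K_le_inf a _
    have h2 : IsComp (stabilizer G a ⊓ stabilizer G (x • b)) L :=
      hL.of_normal hK (inf_le_left.trans (le_normalizer_K a b))
    have h3 : IsComp (stabilizer G a ⊓ stabilizer G (x • b)) (J.map (MulAut.conj x).toMonoidHom) := by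
      have h4 := hJ.map (MulAut.conj x)
      rw [Subgroup.map_inf _ _ _ (MulAut.conj x).injective] at h4
      have h5 : (stabilizer G b).map (MulAut.conj x).toMonoidHom = stabilizer G (x • b) := by
        rw [stabilizer_smul_eq_stabilizer_map_conj]
      rwa [h5, map_conj_eq_of_mem (le_normalizer hx)] at h4
    rcases h3.eq_or h2 with h4 | h4
    · exfalso
      apply h1
      have h5 : J.map (MulAut.conj x).toMonoidHom ≤ (K a b : Subgroup G).map (MulAut.conj x).toMonoidHom := by
        rw [h4, map_conj_eq_of_mem (le_normalizer_K a b hx)]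
        exact hL.le
      rwa [map_le_map_iff_of_injective (MulAut.conj x).injective] at h5
    · exact h4.trans (centralizer_le_normalizer _)
  refine ⟨hn, fun hLb x hx => ?_⟩
  rw [mem_T]
  intro c hc
  obtain ⟨n, hn', hnc⟩ := exists_smul_of_alt_le h6 hN (mem_orbit_self b) hc
  have h3 : n⁻¹ * x * n ∈ L := by
    have := (mem_normalizer_iff.mp (hn (inv_mem hn')) x).mp hx
    simpa using this
  have h4 := conj_mem_K n (hLb h3)
  rw [hnc, mem_stabilizer_iff.mp (NJ_le hJA hn')] at h4
  have e : n * (n⁻¹ * x * n) * n⁻¹ = x := by group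
  rwa [e] at h4

theorem T_le_left {a b : Ω} : (T a b : Subgroup G) ≤ K a b := by
  intro x hx
  rw [mem_T] at hx
  have h1 := hx b (mem_orbit_self b)
  rw [mem_K]
  exact ⟨K_le_right b a h1, fun c hc => K_le_left c a (hx c hc)⟩

/-- The core `K b a` contains all subgroups of `G_a ∩ G_b` normal in `G_b`. -/
theorem le_K_of_normal {a b : Ω} {M : Subgroup G} (hM : M ≤ stabilizer G a ⊓ stabilizer G b)
    (hn : stabilizer G b ≤ normalizer (M : Set G)) : M ≤ K b a := by
  intro x hx
  rw [mem_K]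
  refine ⟨(mem_inf.mp (hM hx)).2, ?_⟩
  rintro _ ⟨⟨g, hg⟩, rfl⟩
  have h1 : g⁻¹ * x * g ∈ M := by
    have := (mem_normalizer_iff.mp (hn (inv_mem hg)) x).mp hx
    simpa using this
  have h2 : (g⁻¹ * x * g) • a = a := (mem_inf.mp (hM h1)).1
  change x • g • a = g • a
  calc x • g • a = g • (g⁻¹ * x * g) • a := by
        rw [smul_smul, smul_smul]; congr 1; group
    _ = g • a := by rw [h2]

theorem pair (hprim : IsPreprimitive G Ω) {a b : Ω} (h6 : 6 ≤ Nat.card (orbit (stabilizer G a) b))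
    (h : alternatingGroup _ ≤ (ph (G := G) a b).range) :
    Pair (stabilizer G a) (stabilizer G b) (K a b) (K b a) (T a b) := by
  have h2 : 2 ≤ Nat.card (orbit (stabilizer G a) b) := by omega
  have hnt : Nontrivial Ω := ⟨a, b, ne_of_two_le h2⟩
  refine ⟨normalizer_le hprim a, normalizer_le hprim b, ?_, stabilizer_ne_of_two_le h2,
    fitting_inf_eq_bot hprim h2 (fitting_Ind h6 h), K_le_inf a b, le_normalizer_K a b, ?_,
    le_normalizer_K b a, fun M hM hn => le_K_of_normal hM hn, T_le_left, T_le a b,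
    le_normalizer_T a b, ?_, ?_⟩
  · obtain ⟨g, hg⟩ := exists_smul_eq G a b
    exact ⟨g, by rw [← hg, stabilizer_smul_eq_stabilizer_map_conj]⟩
  · rw [inf_comm]; exact K_le_inf b a
  · intro J hJ _ hJC
    exact exists_trans h6 h hJ hJC
  · intro J J' hJ hJ' h1 h2
    exact uniq h6 h hJ hJ' h1 h2

theorem T_eq_bot (hprim : IsPreprimitive G Ω) {a b : Ω} (h6 : 6 ≤ Nat.card (orbit (stabilizer G a) b))
    (h : alternatingGroup _ ≤ (ph (G := G) a b).range) : (T a b : Subgroup G) = ⊥ :=
  (pair hprim h6 h).T_eq_bot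

end main

end

end Cfsg.Agent.H429.SubAlt
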