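import Mathlib
import Cfsg.Agent.H429.SubAlt

/-!
# The two kernels meet trivially
-/

set_option autoImplicit false
set_option linter.unusedSectionVars false

namespace Cfsg.Agent.H429.SubAlt

open Subgroup Cfsg MulAction
open Cfsg.Agent.H429.Suborbit Cfsg.Agent.H429.Comp Cfsg.Agent.H429.AltLemmas
open Cfsg.Agent.H429.PairT
open scoped Classical

theorem card_eq_card_map_mul {H P : Type*} [Group H] [Group P] [Finite H] (f : H →* P) (X : Subgroup H) :
    Nat.card X = Nat.card (X.map f) * Nat.card (X ⊓ f.ker : Subgroup H) := by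
  have h1 := relIndex_ker X f
  rw [← h1, mul_comm]
  have h2 : Nat.card (X ⊓ f.ker : Subgroup H) = Nat.card (f.ker.subgroupOf X) := by
    rw [inf_comm, ← subgroupOf_map_subtype, card_map_of_injective X.subtype_injective]
  rw [h2]
  exact ((f.ker.subgroupOf X).card_mul_index).symm

theorem commutator_mem_of_index_le_two {H : Type*} [Group H] [Finite H] {X : Subgroup H} (h : X.index ≤ 2)
    (x y : H) : x * y * x⁻¹ * y⁻¹ ∈ X := by
  rcases X.index.eq_zero_or_pos with h1 | h1
  · exact (index_ne_zero_of_finite h1).elim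
  rcases Nat.lt_or_ge 1 X.index with h2 | h2
  · have h3 : X.index = 2 := by omega
    rw [mul_mem_iff_of_index_two h3, mul_mem_iff_of_index_two h3,
      mul_mem_iff_of_index_two h3, inv_mem_iff, inv_mem_iff]
    tauto
  · have h3 : X = ⊤ := index_eq_one.mp (by omega)
    rw [h3]; trivial

section cards

variable {G Ω : Type*} [Group G] [MulAction G Ω] [Finite G] [FaithfulSMul G Ω] [Finite Ω]

/-- Order of a subgroup acting on the rest of a suborbit. -/
theorem card_le_factorial_mul {x y : Ω} {Z : Subgroup G} (hZ : Z ≤ stabilizer G x ⊓ stabilizer G y) :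
    Nat.card Z ≤ Nat.factorial (Nat.card (orbit (stabilizer G x) y) - 1) *
      Nat.card (Z ⊓ K x y : Subgroup G) := by
  set D := stabilizer G x ⊓ stabilizer G y with hD
  have h1 := card_eq_card_map_mul (rho (G := G) x y) (Z.subgroupOf D)
  have h2 : Nat.card (Z.subgroupOf D) = Nat.card Z :=
    Nat.card_congr (subgroupOfEquivOfLe hZ).toEquiv
  have h3 : Nat.card (Z.subgroupOf D ⊓ (rho (G := G) x y).ker : Subgroup D) =
      Nat.card (Z ⊓ K x y : Subgroup G) := by
    have h4 : Z.subgroupOf D ⊓ (rho (G := G) x y).ker = (Z ⊓ K x y).subgroupOf D := by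
      rw [ker_rho]; rfl
    rw [h4]
    exact Nat.card_congr (subgroupOfEquivOfLe (inf_le_left.trans hZ)).toEquiv
  rw [h2, h3] at h1
  rw [h1]
  refine Nat.mul_le_mul_right _ ?_
  refine (Nat.card_le_card_of_injective _ (subtype_injective _)).trans ?_
  rw [Nat.card_perm, card_rest]

theorem card_eq_card_im_mul {a b : Ω} {Z : Subgroup G} (hZ : Z ≤ stabilizer G a) :
    Nat.card Z = Nat.card (im a b Z) * Nat.card (Z ⊓ K a b : Subgroup G) := by
  have h1 := card_eq_card_map_mul (ph (G := G) a b) (Z.subgroupOf (stabilizer G a))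
  have h2 : Nat.card (Z.subgroupOf (stabilizer G a)) = Nat.card Z :=
    Nat.card_congr (subgroupOfEquivOfLe hZ).toEquiv
  have h3 : Nat.card (Z.subgroupOf (stabilizer G a) ⊓ (ph (G := G) a b).ker : Subgroup (stabilizer G a)) =
      Nat.card (Z ⊓ K a b : Subgroup G) := by
    have h4 : Z.subgroupOf (stabilizer G a) ⊓ (ph (G := G) a b).ker = (Z ⊓ K a b).subgroupOf (stabilizer G a) := by
      ext x
      rw [mem_inf, mem_subgroupOf, mem_subgroupOf, mem_inf, MonoidHom.mem_ker, mem_K_iff x.2]
    rw [h4]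
    exact Nat.card_congr (subgroupOfEquivOfLe (inf_le_left.trans hZ)).toEquiv
  rw [h2, h3] at h1
  exact h1

theorem factorial_le_two_mul {a b : Ω} (h6 : 6 ≤ Nat.card (orbit (stabilizer G a) b))
    {X : Subgroup (Equiv.Perm (orbit (stabilizer G a) b))} (h : alternatingGroup _ ≤ X) :
    Nat.factorial (Nat.card (orbit (stabilizer G a) b)) ≤ 2 * Nat.card X := by
  have h1 : Nontrivial (orbit (stabilizer G a) b) := by
    rw [← Finite.one_lt_card_iff_nontrivial]; omega
  rw [← card_alternatingGroup_mul_two]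
  exact Nat.mul_le_mul_left _ (Nat.card_mono (Set.toFinite _) h)

theorem lt_factorial {d : ℕ} (h : 6 ≤ d) : 2 * Nat.factorial (d - 1) < Nat.factorial d := by
  obtain ⟨e, rfl⟩ : ∃ e, d = e + 1 := ⟨d - 1, by omega⟩
  rw [Nat.add_sub_cancel, Nat.factorial_succ]
  exact Nat.mul_lt_mul_of_pos_right (by omega) (Nat.factorial_pos _)

/-- If the image of `Z` contains the alternating group then so does the image of `Z ∩ K x y`. -/
theorem alt_le_im_inf {a b x y : Ω} (h6 : 6 ≤ Nat.card (orbit (stabilizer G a) b))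
    (hd : Nat.card (orbit (stabilizer G x) y) = Nat.card (orbit (stabilizer G a) b))
    {Z : Subgroup G} (hZA : Z ≤ stabilizer G a) (hZ : Z ≤ stabilizer G x ⊓ stabilizer G y)
    (h : alternatingGroup _ ≤ im a b Z) : alternatingGroup _ ≤ im a b (Z ⊓ K x y) := by
  by_cases hne : im a b (Z ⊓ K x y) = ⊥
  · exfalso
    have h1 : Z ⊓ K x y ≤ K a b := by
      by_contra hcon
      exact im_ne_bot (inf_le_left.trans hZA) hcon hne
    have h2 := card_le_factorial_mul hZ
    rw [card_eq_card_im_mul (b := b) hZA, hd] at h2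
    have h3 : Nat.card (Z ⊓ K x y : Subgroup G) ≤ Nat.card (Z ⊓ K a b : Subgroup G) :=
      Nat.card_mono (Set.toFinite _) (le_inf inf_le_left h1)
    have h4 : Nat.card (im a b Z) ≤ Nat.factorial (Nat.card (orbit (stabilizer G a) b) - 1) :=
      Nat.le_of_mul_le_mul_right (h2.trans (Nat.mul_le_mul_left _ h3)) Nat.card_pos
    have h5 := factorial_le_two_mul h6 h
    have h7 := lt_factorial h6
    omega
  · refine alternatingGroup_le (by omega) hne (h.trans (im_le_normalizer ?_))
    refine le_normalizer_of_map_le fun g hg => ?_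
    rintro _ ⟨z, hz, rfl⟩
    obtain ⟨hz1, hz2⟩ := mem_inf.mp hz
    exact mem_inf.mpr ⟨Z.mul_mem (Z.mul_mem hg hz1) (Z.inv_mem hg),
      (mem_normalizer_iff.mp (le_normalizer_K x y (mem_inf.mp (hZ hg)).1) z).mp hz2⟩

theorem card_orbit_smul (a b : Ω) (g : G) :
    Nat.card (orbit (stabilizer G (g • a)) (g • b)) = Nat.card (orbit (stabilizer G a) b) := by
  have h1 : orbit (stabilizer G (g • a)) (g • b) = (fun c : Ω => g • c) '' orbit (stabilizer G a) b := by
    ext c
    constructor
    · intro hc
      have := smul_mem_orbit g⁻¹ hc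
      rw [inv_smul_smul, inv_smul_smul] at this
      exact ⟨_, this, smul_inv_smul _ _⟩
    · rintro ⟨c, hc, rfl⟩
      exact smul_mem_orbit g hc
  rw [h1]
  exact Nat.card_image_of_injective (MulAction.injective g) _

theorem T_smul_eq_bot {a b : Ω} (h : (T a b : Subgroup G) = ⊥) (g : G) :
    (T (g • a) (g • b) : Subgroup G) = ⊥ := by
  rw [eq_bot_iff]
  intro x hx
  have h1 := conj_mem_T g⁻¹ hx
  rw [inv_smul_smul, inv_smul_smul, h, mem_bot, inv_inv] at h1
  rw [mem_bot]
  calc x = g * (g⁻¹ * x * g) * g⁻¹ := by group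
    _ = 1 := by rw [h1]; group

/-- (★) If `T a b = 1` then the kernel of `G_a` on the in-neighbours is in the kernel on the out-neighbours. -/
theorem K_le_K [IsPretransitive G Ω] {a b : Ω} (h6 : 6 ≤ Nat.card (orbit (stabilizer G a) b))
    (h : alternatingGroup _ ≤ (ph (G := G) a b).range) (hT : (T a b : Subgroup G) = ⊥) {g : G}
    (hg : g • b = a) : (K a (g • a) : Subgroup G) ≤ K a b := by
  by_contra hcon
  have h1 : alternatingGroup _ ≤ im a b (K a (g • a)) :=
    alt_le_im h6 h (K_le_left _ _) hcon (le_normalizer_K _ _)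
  have hd : Nat.card (orbit (stabilizer G (g • a)) a) = Nat.card (orbit (stabilizer G a) b) := by
    have := card_orbit_smul a b g
    rwa [hg] at this
  have hT' : (T (g • a) a : Subgroup G) = ⊥ := by
    have := T_smul_eq_bot hT g
    rwa [hg] at this
  have h2 : alternatingGroup _ ≤ im a b (K a (g • a) ⊓ K (g • a) a : Subgroup G) := by
    refine alt_le_im_inf h6 hd (K_le_left _ _) ?_ h1
    rw [inf_comm]; exact K_le_inf _ _
  have h3 : ∀ s : Finset Ω, (∀ c ∈ s, c ∈ orbit (stabilizer G (g • a)) a) →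
      alternatingGroup _ ≤
        im a b (K a (g • a) ⊓ K (g • a) a ⊓ ⨅ c ∈ s, (K c (g • a) : Subgroup G) : Subgroup G) := by
    intro s
    induction s using Finset.induction_on with
    | empty =>
      intro _
      simpa using h2
    | insert c s hcs ih =>
      intro hs
      have h4 := ih fun c' hc' => hs c' (Finset.mem_insert_of_mem hc')
      have hc := hs c (Finset.mem_insert_self c s)
      rw [Finset.iInf_insert, inf_comm (K c (g • a)), ← inf_assoc]
      refine alt_le_im_inf h6 ?_ ?_ ?_ h4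
      · rw [card_orbit_eq_of_mem hc, hd]
      · exact (inf_le_left.trans inf_le_left).trans (K_le_left _ _)
      · refine (inf_le_left.trans inf_le_right).trans ?_
        intro x hx
        exact mem_inf.mpr ⟨(mem_K.mp hx).2 c hc, K_le_left _ _ hx⟩
  have h4 := h3 (orbit (stabilizer G (g • a)) a).toFinset (fun c hc => by simpa using hc)
  have h5 : (K a (g • a) ⊓ K (g • a) a ⊓
      (⨅ c ∈ (orbit (stabilizer G (g • a)) a).toFinset, (K c (g • a) : Subgroup G)) : Subgroup G) = ⊥ := by
    rw [eq_bot_iff, ← hT']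
    intro x hx
    rw [mem_T]
    intro c hc
    have h6 := (mem_inf.mp hx).2
    rw [mem_iInf] at h6
    have h7 := h6 c
    rw [mem_iInf] at h7
    exact h7 (by simpa using hc)
  rw [h5] at h4
  have h7 := factorial_le_two_mul h6 h4
  have h8 : Nat.card (im a b (⊥ : Subgroup G)) = 1 := by
    have : im a b (⊥ : Subgroup G) = ⊥ := by
      rw [im, bot_subgroupOf, Subgroup.map_bot]
    rw [this, card_bot]
  rw [h8] at h7
  have h9 : Nat.factorial 6 ≤ Nat.factorial (Nat.card (orbit (stabilizer G a) b)) :=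
    Nat.factorial_le h6
  have h10 : Nat.factorial 6 = 720 := rfl
  omega

/-- The two kernels meet trivially. -/
theorem K_inf_K (hprim : IsPreprimitive G Ω) {a b : Ω}
    (h6 : 6 ≤ Nat.card (orbit (stabilizer G a) b))
    (h : alternatingGroup _ ≤ (ph (G := G) a b).range) : (K a b ⊓ K b a : Subgroup G) = ⊥ := by
  have hT := T_eq_bot hprim h6 h
  have hp := pair hprim h6 h
  by_contra hne
  obtain ⟨L, hL, hLR⟩ := exists_isComp hp.F (inf_le_left.trans hp.C₁_le) (by
    have h1 : stabilizer G a ⊓ stabilizer G b ≤ normalizer ((K a b : Subgroup G) : Set G) :=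
      inf_le_left.trans (le_normalizer_K a b)
    have h2 : stabilizer G a ⊓ stabilizer G b ≤ normalizer ((K b a : Subgroup G) : Set G) :=
      inf_le_right.trans (le_normalizer_K b a)
    exact (le_inf h1 h2).trans inf_normalizer_le_normalizer_inf) hne
  by_cases hJ : ∃ J, IsComp (stabilizer G a ⊓ stabilizer G b) J ∧ J ≤ K b a ∧ ¬ J ≤ K a b
  · obtain ⟨J, hJ1, hJ2, hJ3⟩ := hJ
    obtain ⟨N, -, hN⟩ := exists_trans h6 h hJ1 hJ3
    have h1 := (hN L (hL.of_le (hLR.trans inf_le_left) hp.C₁_le)).2 (hLR.trans inf_le_right)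
    rw [hT, le_bot_iff] at h1
    exact hL.ne_bot h1
  push Not at hJ
  -- the other kernel of `G_a`
  have hprim' := hprim
  obtain ⟨g, hg⟩ := exists_smul_eq G b a
  have hY : (K a (g • a) : Subgroup G) ≤ K a b := K_le_K h6 h hT hg
  have hYA : (K a (g • a) : Subgroup G) ≤ stabilizer G a := K_le_left _ _
  have hYeq : (K a (g • a) : Subgroup G) = (K b a : Subgroup G).map (MulAut.conj g).toMonoidHom := by
    apply le_antisymm
    · intro x hx
      have h1 := conj_mem_K g⁻¹ hx
      have h2 : g⁻¹ • a = b := by rw [← hg, inv_smul_smul]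
      rw [inv_smul_smul, h2, inv_inv] at h1
      exact ⟨_, h1, by change g * (g⁻¹ * x * g) * g⁻¹ = x; group⟩
    · rintro _ ⟨x, hx, rfl⟩
      have h1 := conj_mem_K g hx
      rwa [hg] at h1
  have hd : Nat.card (orbit (stabilizer G a) (g • a)) = Nat.card (orbit (stabilizer G a) b) := by
    rw [card_orbit_eq]
    have := card_orbit_smul a b g
    rwa [hg] at this
  have hidx : ((K a (g • a) : Subgroup G).subgroupOf (K a b)).index ≤ 2 := by
    have h1 := Nat.le_of_dvd (Nat.mul_pos (Nat.factorial_pos _) Nat.card_pos)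
      (card_dvd_factorial_mul (G := G) a (g • a))
    rw [hd, card_eq_card_im_mul (b := b) (le_refl (stabilizer G a)), inf_of_le_right (K_le_left a b)] at h1
    have h2 : alternatingGroup _ ≤ im a b (stabilizer G a) := by rw [im_top]; exact h
    have h3 := factorial_le_two_mul h6 h2
    have h4 : Nat.card (K a b : Subgroup G) ≤ 2 * Nat.card (K a (g • a) : Subgroup G) := by
      have h5 : Nat.card (im a b (stabilizer G a)) * Nat.card (K a b : Subgroup G) ≤
          Nat.card (im a b (stabilizer G a)) * (2 * Nat.card (K a (g • a) : Subgroup G)) := by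
        refine h1.trans ((Nat.mul_le_mul_right _ h3).trans ?_)
        apply le_of_eq; ring
      exact Nat.le_of_mul_le_mul_left h5 Nat.card_pos
    have h5 := ((K a (g • a) : Subgroup G).subgroupOf (K a b)).card_mul_index
    have h6 : Nat.card ((K a (g • a) : Subgroup G).subgroupOf (K a b)) = Nat.card (K a (g • a) : Subgroup G) :=
      Nat.card_congr (subgroupOfEquivOfLe hY).toEquiv
    rw [h6] at h5
    rw [← h5, mul_comm 2] at h4
    exact Nat.le_of_mul_le_mul_left h4 Nat.card_pos
  have hcomp : ∀ M : Subgroup G, IsComp (K a b : Subgroup G) M → M ≤ K a (g • a) := by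
    intro M hM
    rw [← hM.isPerfect, commutator_le]
    intro x hx y hy
    have := commutator_mem_of_index_le_two hidx ⟨x, hM.le hx⟩ ⟨y, hM.le hy⟩
    exact this
  have h1 : EE (K a b : Subgroup G) ≤ EE (K a (g • a)) := by
    rw [EE_le_iff]
    intro M hM
    exact (hM.of_le (hcomp M hM) hY).le_EE
  have h2 : Nat.card (EE (K a (g • a) : Subgroup G)) = Nat.card (EE (K b a : Subgroup G)) := by
    rw [hYeq, ← map_EE, card_map_of_injective (MulAut.conj g).injective]
  have h3 : EE (K b a : Subgroup G) ≤ EE (K a b) := by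
    rw [EE_le_iff]
    intro M hM
    have h4 : IsComp (stabilizer G a ⊓ stabilizer G b) M :=
      hM.of_normal hp.C₂_le (inf_le_right.trans hp.C₂_n)
    exact (h4.of_le (hJ M h4 hM.le) hp.C₁_le).le_EE
  have h4 : EE (K b a : Subgroup G) = EE (K a b) := by
    refine eq_of_le_of_card_ge h3 ?_
    rw [← h2]
    exact Nat.card_mono (Set.toFinite _) h1
  refine hp.false_of_normal (X := EE (K b a)) ((EE_le _).trans (K_le_left b a)) ?_ ?_ ?_
  · intro h5
    have h6 := (hL.of_le (hLR.trans inf_le_right) hp.C₂_le).le_EE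
    rw [h5, le_bot_iff] at h6
    exact hL.ne_bot h6
  · rw [h4]
    exact (le_normalizer_K a b).trans (normalizer_le_normalizer_EE _)
  · exact (le_normalizer_K b a).trans (normalizer_le_normalizer_EE _)

end cards

end Cfsg.Agent.H429.SubAlt
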