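import Mathlib
import Cfsg.Agent.H429.SubAlt2

/-!
# The structure of the point stabiliser
-/

set_option autoImplicit false
set_option linter.unusedSectionVars false

namespace Cfsg.Agent.H429.SubAlt

open Subgroup Cfsg MulAction
open Cfsg.Agent.H429.Suborbit Cfsg.Agent.H429.Comp Cfsg.Agent.H429.AltLemmas
open Cfsg.Agent.H429.PairT
open scoped Classical

section struct

variable {G Ω : Type*} [Group G] [MulAction G Ω] [Finite G] [FaithfulSMul G Ω] [Finite Ω]

theorem card_K_le [IsPretransitive G Ω] {a b x : Ω}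
    (h6 : 6 ≤ Nat.card (orbit (stabilizer G a) b))
    (h : alternatingGroup _ ≤ (ph (G := G) a b).range)
    (hd : Nat.card (orbit (stabilizer G a) x) = Nat.card (orbit (stabilizer G a) b)) :
    Nat.card (K a b : Subgroup G) ≤ 2 * Nat.card (K a x : Subgroup G) := by
  have h1 := Nat.le_of_dvd (Nat.mul_pos (Nat.factorial_pos _) Nat.card_pos)
    (card_dvd_factorial_mul (G := G) a x)
  rw [hd, card_eq_card_im_mul (b := b) (le_refl (stabilizer G a)), inf_of_le_right (K_le_left a b)] at h1
  have h2 : alternatingGroup _ ≤ im a b (stabilizer G a) := by rw [im_top]; exact h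
  have h3 := factorial_le_two_mul h6 h2
  have h5 : Nat.card (im a b (stabilizer G a)) * Nat.card (K a b : Subgroup G) ≤
      Nat.card (im a b (stabilizer G a)) * (2 * Nat.card (K a x : Subgroup G)) := by
    refine h1.trans ((Nat.mul_le_mul_right _ h3).trans ?_)
    apply le_of_eq; ring
  exact Nat.le_of_mul_le_mul_left h5 Nat.card_pos

/-- The kernel of `G_a` on the in-neighbours. -/
theorem K_smul {a b : Ω} {g : G} (hg : g • b = a) :
    (K a (g • a) : Subgroup G) = (K b a : Subgroup G).map (MulAut.conj g).toMonoidHom := by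
  apply le_antisymm
  · intro x hx
    have h1 := conj_mem_K g⁻¹ hx
    have h2 : g⁻¹ • a = b := by rw [← hg, inv_smul_smul]
    rw [inv_smul_smul, h2, inv_inv] at h1
    exact ⟨_, h1, by change g * (g⁻¹ * x * g) * g⁻¹ = x; group⟩
  · rintro _ ⟨x, hx, rfl⟩
    have h1 := conj_mem_K g hx
    rwa [hg] at h1

theorem card_orbit_smul' [IsPretransitive G Ω] {a b : Ω} {g : G} (hg : g • b = a) :
    Nat.card (orbit (stabilizer G a) (g • a)) = Nat.card (orbit (stabilizer G a) b) := by
  rw [card_orbit_eq]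
  have := card_orbit_smul a b g
  rwa [hg] at this

/-- The two kernels are conjugate. -/
theorem K_eq (hprim : IsPreprimitive G Ω) {a b : Ω} (h6 : 6 ≤ Nat.card (orbit (stabilizer G a) b))
    (h : alternatingGroup _ ≤ (ph (G := G) a b).range) {g : G} (hg : g • b = a) :
    (K a b : Subgroup G) = (K b a : Subgroup G).map (MulAut.conj g).toMonoidHom := by
  rw [← K_smul hg]
  have hT := T_eq_bot hprim h6 h
  have hY : (K a (g • a) : Subgroup G) ≤ K a b := K_le_K h6 h hT hg
  have hd := card_orbit_smul' (G := G) hg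
  have hle := card_K_le h6 h hd
  refine le_antisymm ?_ hY
  by_contra hcon
  have h1 : alternatingGroup _ ≤ im a b (stabilizer G a) := by rw [im_top]; exact h
  have h2 := factorial_le_two_mul h6 h1
  have h3 := card_eq_card_im_mul (b := b) (le_refl (stabilizer G a))
  have h4 := card_eq_card_im_mul (b := g • a) (le_refl (stabilizer G a))
  rw [inf_of_le_right (K_le_left a b)] at h3
  rw [inf_of_le_right (K_le_left a (g • a))] at h4
  have h5 : Nat.card (im a b (stabilizer G a)) ≤ Nat.card (im a (g • a) (stabilizer G a)) := by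
    have h7 : Nat.card (im a b (stabilizer G a)) * Nat.card (K a (g • a) : Subgroup G) ≤
        Nat.card (im a (g • a) (stabilizer G a)) * Nat.card (K a (g • a) : Subgroup G) := by
      rw [← h4, h3]
      exact Nat.mul_le_mul_left _ (Nat.card_mono (Set.toFinite _) hY)
    exact Nat.le_of_mul_le_mul_right h7 Nat.card_pos
  have h7 : (ph (G := G) a (g • a)).range.index ≤ 2 := by
    have h8 := (ph (G := G) a (g • a)).range.card_mul_index
    rw [Nat.card_perm, hd, ← im_top] at h8
    have h9 : Nat.card (im a (g • a) (stabilizer G a)) * (im a (g • a) (stabilizer G a)).index ≤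
        Nat.card (im a (g • a) (stabilizer G a)) * 2 := by
      rw [h8]; omega
    rw [← im_top]
    exact Nat.le_of_mul_le_mul_left h9 Nat.card_pos
  have h8 : alternatingGroup _ ≤ (ph (G := G) a (g • a)).range :=
    Equiv.Perm.alternatingGroup_le_of_index_le_two h7
  have h6' : 6 ≤ Nat.card (orbit (stabilizer G a) (g • a)) := by rw [hd]; exact h6
  have h9 := alt_le_im h6' h8 (K_le_left a b) hcon (le_normalizer_K a b)
  have h10 := factorial_le_two_mul h6' h9
  have h11 := card_eq_card_im_mul (b := g • a) (K_le_left (G := G) a b)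
  rw [inf_of_le_right hY] at h11
  rw [h11] at hle
  have h12 := Nat.le_of_mul_le_mul_right hle Nat.card_pos
  have h13 : Nat.factorial 6 ≤ Nat.factorial (Nat.card (orbit (stabilizer G a) (g • a))) :=
    Nat.factorial_le h6'
  have h14 : Nat.factorial 6 = 720 := rfl
  omega

theorem card_K_eq (hprim : IsPreprimitive G Ω) {a b : Ω}
    (h6 : 6 ≤ Nat.card (orbit (stabilizer G a) b))
    (h : alternatingGroup _ ≤ (ph (G := G) a b).range) :
    Nat.card (K a b : Subgroup G) = Nat.card (K b a : Subgroup G) := by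
  obtain ⟨g, hg⟩ := exists_smul_eq G b a
  rw [K_eq hprim h6 h hg, card_map_of_injective (MulAut.conj g).injective]

theorem not_K_le_K (hprim : IsPreprimitive G Ω) {a b : Ω}
    (h6 : 6 ≤ Nat.card (orbit (stabilizer G a) b))
    (h : alternatingGroup _ ≤ (ph (G := G) a b).range) (hC : (K a b : Subgroup G) ≠ ⊥) :
    ¬ (K b a : Subgroup G) ≤ K a b := by
  intro h1
  have h2 := K_inf_K hprim h6 h
  rw [inf_of_le_right h1] at h2
  apply hC
  rw [← card_eq_one, card_K_eq hprim h6 h, h2, card_bot]

/-- The image of `K b a` on the rest of the suborbit. -/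
theorem alt_le_map_rho (hprim : IsPreprimitive G Ω) {a b : Ω}
    (h6 : 6 ≤ Nat.card (orbit (stabilizer G a) b))
    (h : alternatingGroup _ ≤ (ph (G := G) a b).range) (hC : (K a b : Subgroup G) ≠ ⊥) :
    alternatingGroup _ ≤
      ((K b a : Subgroup G).subgroupOf (stabilizer G a ⊓ stabilizer G b)).map (rho a b) := by
  set D := stabilizer G a ⊓ stabilizer G b with hD
  have hKD : (K b a : Subgroup G) ≤ D := by rw [hD, inf_comm]; exact K_le_inf b a
  apply alternatingGroup_le (by rw [card_rest]; omega)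
  · intro h1
    apply not_K_le_K hprim h6 h hC
    intro x hx
    rw [← rho_eq_one_iff a b ⟨x, hKD hx⟩]
    have h2 : rho a b ⟨x, hKD hx⟩ ∈ ((K b a : Subgroup G).subgroupOf D).map (rho a b) :=
      mem_map_of_mem _ hx
    rwa [h1, mem_bot] at h2
  · refine (alt_le_range_rho h).trans ?_
    rw [MonoidHom.range_eq_map]
    refine (map_mono ?_).trans (le_normalizer_map _)
    intro y _
    rw [mem_normalizer_iff]
    intro x
    exact mem_normalizer_iff.mp (le_normalizer_K b a (mem_inf.mp y.2).2) x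

theorem factorial_le_card_K (hprim : IsPreprimitive G Ω) {a b : Ω}
    (h6 : 6 ≤ Nat.card (orbit (stabilizer G a) b))
    (h : alternatingGroup _ ≤ (ph (G := G) a b).range) (hC : (K a b : Subgroup G) ≠ ⊥) :
    Nat.factorial (Nat.card (orbit (stabilizer G a) b) - 1) ≤ 2 * Nat.card (K b a : Subgroup G) := by
  have h1 := alt_le_map_rho hprim h6 h hC
  have hnt : Nontrivial {y : orbit (stabilizer G a) b // y ≠ pt G a b} := by
    rw [← Finite.one_lt_card_iff_nontrivial, card_rest]; omega
  rw [← card_rest, ← card_alternatingGroup_mul_two]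
  refine Nat.mul_le_mul_left _ ?_
  have hKD : (K b a : Subgroup G) ≤ stabilizer G a ⊓ stabilizer G b := by
    rw [inf_comm]; exact K_le_inf b a
  have h2 : Nat.card ((K b a : Subgroup G).subgroupOf (stabilizer G a ⊓ stabilizer G b)) =
      Nat.card (K b a : Subgroup G) := Nat.card_congr (subgroupOfEquivOfLe hKD).toEquiv
  rw [← h2]
  exact (Nat.card_mono (Set.toFinite _) h1).trans (Nat.le_of_dvd Nat.card_pos (card_map_dvd _ _))

/-- The centralizer of the kernel. -/
def CC (G : Type*) {Ω : Type*} [Group G] [MulAction G Ω] (a b : Ω) : Subgroup G :=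
  stabilizer G a ⊓ centralizer ((K a b : Subgroup G) : Set G)

theorem CC_le (a b : Ω) : CC G a b ≤ stabilizer G a := inf_le_left

theorem le_normalizer_CC (a b : Ω) : stabilizer G a ≤ normalizer (CC G a b : Set G) := by
  refine le_normalizer_of_map_le fun g hg => ?_
  rintro _ ⟨x, hx, rfl⟩
  obtain ⟨hx1, hx2⟩ := mem_inf.mp hx
  refine mem_inf.mpr ⟨mul_mem (mul_mem hg hx1) (inv_mem hg), ?_⟩
  rw [mem_centralizer_iff]
  intro y hy
  have h1 : g⁻¹ * y * g ∈ (K a b : Subgroup G) := by
    have := (mem_normalizer_iff.mp (le_normalizer_K a b (inv_mem hg)) y).mp hy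
    simpa using this
  have h2 := mem_centralizer_iff.mp hx2 _ h1
  change y * (g * x * g⁻¹) = g * x * g⁻¹ * y
  calc y * (g * x * g⁻¹) = g * ((g⁻¹ * y * g) * x) * g⁻¹ := by group
    _ = g * (x * (g⁻¹ * y * g)) * g⁻¹ := by rw [h2]
    _ = _ := by group

theorem CC_inf (hprim : IsPreprimitive G Ω) {a b : Ω}
    (h6 : 6 ≤ Nat.card (orbit (stabilizer G a) b))
    (h : alternatingGroup _ ≤ (ph (G := G) a b).range) : CC G a b ⊓ K a b = ⊥ := by
  by_contra hne
  have hp := pair hprim h6 h
  obtain ⟨L, hL, hLR⟩ := exists_isComp hp.F (inf_le_right.trans hp.C₁_le) (by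
    have h1 : stabilizer G a ⊓ stabilizer G b ≤ normalizer ((K a b : Subgroup G) : Set G) :=
      inf_le_left.trans (le_normalizer_K a b)
    have h2 : stabilizer G a ⊓ stabilizer G b ≤ normalizer ((CC G a b : Subgroup G) : Set G) :=
      inf_le_left.trans (le_normalizer_CC a b)
    exact (le_inf h2 h1).trans inf_normalizer_le_normalizer_inf) hne
  exact hL.not_le_centralizer (hLR.trans inf_le_right) ((hLR.trans inf_le_left).trans inf_le_right)

theorem K_le_CC (hprim : IsPreprimitive G Ω) {a b : Ω}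
    (h6 : 6 ≤ Nat.card (orbit (stabilizer G a) b))
    (h : alternatingGroup _ ≤ (ph (G := G) a b).range) : (K b a : Subgroup G) ≤ CC G a b := by
  intro x hx
  refine mem_inf.mpr ⟨K_le_right b a hx, ?_⟩
  rw [mem_centralizer_iff]
  intro y hy
  have h1 : y * x * y⁻¹ * x⁻¹ ∈ (K a b ⊓ K b a : Subgroup G) := by
    refine mem_inf.mpr ⟨?_, ?_⟩
    · have h2 := (mem_normalizer_iff.mp (le_normalizer_K a b (K_le_right b a hx)) y⁻¹).mp (inv_mem hy)
      have e : y * x * y⁻¹ * x⁻¹ = y * (x * y⁻¹ * x⁻¹) := by group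
      rw [e]
      exact mul_mem hy h2
    · have h2 := (mem_normalizer_iff.mp (le_normalizer_K b a (K_le_right a b hy)) x).mp hx
      exact mul_mem h2 (inv_mem hx)
  rw [K_inf_K hprim h6 h, mem_bot, mul_inv_eq_one, mul_inv_eq_iff_eq_mul] at h1
  exact h1

theorem alt_le_im_CC (hprim : IsPreprimitive G Ω) {a b : Ω}
    (h6 : 6 ≤ Nat.card (orbit (stabilizer G a) b))
    (h : alternatingGroup _ ≤ (ph (G := G) a b).range) (hC : (K a b : Subgroup G) ≠ ⊥) :
    alternatingGroup _ ≤ im a b (CC G a b) :=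
  alt_le_im h6 h (CC_le a b) (fun h1 => not_K_le_K hprim h6 h hC ((K_le_CC hprim h6 h).trans h1))
    (le_normalizer_CC a b)

/-- The order of `CC` meeting the two-point stabiliser, if it acts by even permutations. -/
theorem card_CC_inf_le (hprim : IsPreprimitive G Ω) {a b : Ω}
    (h6 : 6 ≤ Nat.card (orbit (stabilizer G a) b))
    (h : alternatingGroup _ ≤ (ph (G := G) a b).range)
    (hA : im a b (CC G a b) = alternatingGroup _) :
    2 * Nat.card (CC G a b ⊓ stabilizer G b : Subgroup G) ≤
      Nat.factorial (Nat.card (orbit (stabilizer G a) b) - 1) := by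
  have hnt : Nontrivial {y : orbit (stabilizer G a) b // y ≠ pt G a b} := by
    rw [← Finite.one_lt_card_iff_nontrivial, card_rest]; omega
  rw [← card_rest, ← card_alternatingGroup_mul_two]
  refine Nat.mul_le_mul_left _ ?_
  have hle : CC G a b ⊓ stabilizer G b ≤ stabilizer G a ⊓ stabilizer G b :=
    inf_le_inf_right _ (CC_le a b)
  have hmem : ∀ x : ↥(CC G a b ⊓ stabilizer G b), rho (G := G) a b ⟨x, hle x.2⟩ ∈
      alternatingGroup {y : orbit (stabilizer G a) b // y ≠ pt G a b} := by
    intro x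
    rw [Equiv.Perm.mem_alternatingGroup, sign_rho, ← Equiv.Perm.mem_alternatingGroup, ← hA]
    exact mem_map_of_mem _ (mem_inf.mp x.2).1
  refine Nat.card_le_card_of_injective (fun x : ↥(CC G a b ⊓ stabilizer G b) =>
    (⟨rho (G := G) a b ⟨x, hle x.2⟩, hmem x⟩ :
      alternatingGroup {y : orbit (stabilizer G a) b // y ≠ pt G a b})) ?_
  intro x y hxy
  have h1 : rho (G := G) a b ⟨x, hle x.2⟩ = rho (G := G) a b ⟨y, hle y.2⟩ := congrArg Subtype.val hxy
  have h2 : rho (G := G) a b (⟨x, hle x.2⟩ * ⟨y, hle y.2⟩⁻¹) = 1 := by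
    rw [map_mul, map_inv, h1, mul_inv_cancel]
  rw [rho_eq_one_iff] at h2
  have h3 : (x : G) * (y : G)⁻¹ ∈ CC G a b ⊓ K a b :=
    mem_inf.mpr ⟨mul_mem (mem_inf.mp x.2).1 (inv_mem (mem_inf.mp y.2).1), h2⟩
  rw [CC_inf hprim h6 h, mem_bot, mul_inv_eq_one] at h3
  exact Subtype.ext h3

end struct

end Cfsg.Agent.H429.SubAlt
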