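import Mathlib
import Cfsg.Agent.H429.SubAlt3

/-!
# The isomorphism type of the point stabiliser
-/

set_option autoImplicit false
set_option linter.unusedSectionVars false

namespace Cfsg.Agent.H429.SubAlt

open Subgroup Cfsg MulAction
open Cfsg.Agent.H429.Suborbit Cfsg.Agent.H429.Comp Cfsg.Agent.H429.AltLemmas
open Cfsg.Agent.H429.PairT
open scoped Classical

theorem exists_prod_equiv {A : Type*} [Group A] (N C : Subgroup A)
    (hNC : ∀ x ∈ N, ∀ y ∈ C, x * y = y * x) (hd : N ⊓ C = ⊥)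
    (hs : ∀ a : A, ∃ x ∈ N, ∃ y ∈ C, a = x * y) : Nonempty (A ≃* N × C) := by
  let f : N × C →* A := MonoidHom.noncommCoprod N.subtype C.subtype (fun x y => hNC x x.2 y y.2)
  have hf : ∀ z : N × C, f z = (z.1 : A) * z.2 := fun z => rfl
  have hbij : Function.Bijective f := by
    constructor
    · rw [injective_iff_map_eq_one]
      rintro ⟨x, y⟩ h
      rw [hf] at h
      change (x : A) * (y : A) = 1 at h
      have h1 : (x : A) = (y : A)⁻¹ := eq_inv_of_mul_eq_one_left h
      have h2 : (x : A) ∈ N ⊓ C := mem_inf.mpr ⟨x.2, by rw [h1]; exact C.inv_mem y.2⟩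
      rw [hd, mem_bot] at h2
      have h3 : (y : A) = 1 := by rwa [h2, one_mul] at h
      exact Prod.ext (Subtype.ext h2) (Subtype.ext h3)
    · intro a
      obtain ⟨x, hx, y, hy, rfl⟩ := hs a
      exact ⟨(⟨x, hx⟩, ⟨y, hy⟩), rfl⟩
  exact ⟨(MulEquiv.ofBijective f hbij).symm⟩

theorem equiv_perm {γ : Type*} {X : Subgroup (Equiv.Perm γ)} (hX : X = ⊤) {n : ℕ} (e : γ ≃ Fin n) :
    Nonempty (X ≃* Equiv.Perm (Fin n)) := by
  subst hX
  exact ⟨Subgroup.topEquiv.trans (Equiv.permCongrHom e)⟩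

theorem equiv_alt {γ : Type*} [Fintype γ] [DecidableEq γ] {X : Subgroup (Equiv.Perm γ)}
    (hX : X = alternatingGroup γ) {n : ℕ} (e : γ ≃ Fin n) :
    Nonempty (X ≃* alternatingGroup (Fin n)) := by
  subst hX
  exact ⟨Equiv.altCongrHom e⟩

section struct

variable {G Ω : Type*} [Group G] [MulAction G Ω] [Finite G] [FaithfulSMul G Ω] [Finite Ω]

/-- The representation of the kernel. -/
noncomputable def rC (a b : Ω) : (K a b : Subgroup G) →*
    Equiv.Perm {y : orbit (stabilizer G b) a // y ≠ pt G b a} :=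
  (rho (G := G) b a).comp (inclusion (by rw [inf_comm]; exact K_le_inf a b))

theorem rC_injective (hprim : IsPreprimitive G Ω) {a b : Ω}
    (h6 : 6 ≤ Nat.card (orbit (stabilizer G a) b))
    (h : alternatingGroup _ ≤ (ph (G := G) a b).range) : Function.Injective (rC (G := G) a b) := by
  rw [injective_iff_map_eq_one]
  intro x hx
  have h1 : (x : G) ∈ (K b a : Subgroup G) := (rho_eq_one_iff b a _).mp hx
  have h2 : (x : G) ∈ (K a b ⊓ K b a : Subgroup G) := mem_inf.mpr ⟨x.2, h1⟩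
  rw [K_inf_K hprim h6 h, mem_bot] at h2
  exact Subtype.ext h2

theorem card_rest' (hprim : IsPreprimitive G Ω) (a b : Ω) :
    Nat.card {y : orbit (stabilizer G b) a // y ≠ pt G b a} =
      Nat.card (orbit (stabilizer G a) b) - 1 := by
  rw [card_rest, card_orbit_eq]

theorem alt_le_range_rC (hprim : IsPreprimitive G Ω) {a b : Ω}
    (h6 : 6 ≤ Nat.card (orbit (stabilizer G a) b))
    (h : alternatingGroup _ ≤ (ph (G := G) a b).range) (hC : (K a b : Subgroup G) ≠ ⊥) :
    alternatingGroup _ ≤ (rC (G := G) a b).range := by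
  apply Equiv.Perm.alternatingGroup_le_of_index_le_two
  have h1 := (rC (G := G) a b).range.card_mul_index
  have h2 : Nat.card (rC (G := G) a b).range = Nat.card (K b a : Subgroup G) := by
    rw [← card_K_eq hprim h6 h]
    exact Nat.card_congr (MonoidHom.ofInjective (rC_injective hprim h6 h)).toEquiv.symm
  rw [h2, Nat.card_perm, card_rest' hprim] at h1
  have h3 := factorial_le_card_K hprim h6 h hC
  rw [← h1, mul_comm 2] at h3
  exact Nat.le_of_mul_le_mul_left h3 Nat.card_pos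

theorem range_rC_eq (hprim : IsPreprimitive G Ω) {a b : Ω}
    (h6 : 6 ≤ Nat.card (orbit (stabilizer G a) b))
    (h : alternatingGroup _ ≤ (ph (G := G) a b).range) (hC : (K a b : Subgroup G) ≠ ⊥)
    (hA : im a b (CC G a b) = alternatingGroup _) :
    (rC (G := G) a b).range = alternatingGroup _ := by
  rcases eq_or_of_alternatingGroup_le (alt_le_range_rC hprim h6 h hC) with h1 | h1
  · exact h1
  · exfalso
    have h2 : Nat.card (rC (G := G) a b).range = Nat.card (K b a : Subgroup G) := by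
      rw [← card_K_eq hprim h6 h]
      exact Nat.card_congr (MonoidHom.ofInjective (rC_injective hprim h6 h)).toEquiv.symm
    rw [h1, card_top, Nat.card_perm, card_rest' hprim] at h2
    have h3 := card_CC_inf_le hprim h6 h hA
    have h4 : Nat.card (K b a : Subgroup G) ≤ Nat.card (CC G a b ⊓ stabilizer G b : Subgroup G) :=
      Nat.card_mono (Set.toFinite _) (le_inf (K_le_CC hprim h6 h) (K_le_left b a))
    have h5 := Nat.factorial_pos (Nat.card (orbit (stabilizer G a) b) - 1)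
    omega

theorem CC_inf_eq (hprim : IsPreprimitive G Ω) {a b : Ω}
    (h6 : 6 ≤ Nat.card (orbit (stabilizer G a) b))
    (h : alternatingGroup _ ≤ (ph (G := G) a b).range) (hC : (K a b : Subgroup G) ≠ ⊥)
    (hA : im a b (CC G a b) = alternatingGroup _) :
    CC G a b ⊓ stabilizer G b = K b a := by
  have h3 := card_CC_inf_le hprim h6 h hA
  have h4 := factorial_le_card_K hprim h6 h hC
  exact (eq_of_le_of_card_ge (le_inf (K_le_CC hprim h6 h) (K_le_left b a)) (by omega)).symm

/-- The case where the stabiliser is a direct product. -/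
theorem exists_equiv_of_eq (hprim : IsPreprimitive G Ω) {a b : Ω}
    (h6 : 6 ≤ Nat.card (orbit (stabilizer G a) b))
    (h : alternatingGroup _ ≤ (ph (G := G) a b).range)
    (hA : im a b (CC G a b) = (ph (G := G) a b).range) :
    Nonempty (stabilizer G a ≃* (ph (G := G) a b).range × (rC (G := G) a b).range) := by
  set A := stabilizer G a with hAdef
  set N' := (CC G a b).subgroupOf A with hN'
  set C' := (K a b : Subgroup G).subgroupOf A with hC'
  have hinf : N' ⊓ C' = ⊥ := by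
    rw [eq_bot_iff]
    intro x hx
    have h1 : (x : G) ∈ CC G a b ⊓ K a b := mem_inf.mpr ⟨(mem_inf.mp hx).1, (mem_inf.mp hx).2⟩
    rw [CC_inf hprim h6 h, mem_bot] at h1
    rw [mem_bot]
    exact Subtype.ext h1
  obtain ⟨e⟩ := exists_prod_equiv N' C' (by
    intro x hx y hy
    apply Subtype.ext
    have h1 : (x : G) ∈ CC G a b := hx
    exact (mem_centralizer_iff.mp (mem_inf.mp h1).2 y hy).symm) hinf (by
    intro x
    have h1 : ph a b x ∈ im a b (CC G a b) := by rw [hA]; exact ⟨x, rfl⟩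
    obtain ⟨n, hn, hnx⟩ := h1
    refine ⟨n, hn, n⁻¹ * x, ?_, by group⟩
    rw [hC', mem_subgroupOf, mem_K_iff (n⁻¹ * x).2]
    change ph a b (n⁻¹ * x) = 1
    rw [map_mul, map_inv, hnx, inv_mul_cancel])
  -- the first factor
  let f₁ : N' →* (ph (G := G) a b).range := (ph (G := G) a b).rangeRestrict.comp N'.subtype
  have hf₁ : Function.Bijective f₁ := by
    constructor
    · rw [injective_iff_map_eq_one]
      intro x hx
      have h1 : ph a b (x : A) = 1 := congrArg Subtype.val hx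
      have h2 : (x : A) ∈ N' ⊓ C' := mem_inf.mpr ⟨x.2, by
        rw [hC', mem_subgroupOf, mem_K_iff (x : A).2]
        exact h1⟩
      rw [hinf, mem_bot] at h2
      exact Subtype.ext h2
    · rintro ⟨σ, hσ⟩
      rw [← hA] at hσ
      obtain ⟨n, hn, hnσ⟩ := hσ
      exact ⟨⟨n, hn⟩, Subtype.ext hnσ⟩
  let e₁ := MulEquiv.ofBijective f₁ hf₁
  let e₂ : C' ≃* (rC (G := G) a b).range :=
    (subgroupOfEquivOfLe (K_le_left a b)).trans (MonoidHom.ofInjective (rC_injective hprim h6 h))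
  exact ⟨e.trans (MulEquiv.prodCongr e₁ e₂)⟩

/-- The last case. -/
theorem exists_equiv_ker (hprim : IsPreprimitive G Ω) {a b : Ω}
    (h6 : 6 ≤ Nat.card (orbit (stabilizer G a) b))
    (h : alternatingGroup _ ≤ (ph (G := G) a b).range) (hC : (K a b : Subgroup G) ≠ ⊥)
    (hR : (ph (G := G) a b).range = ⊤) (hA : im a b (CC G a b) = alternatingGroup _) {m n : ℕ}
    (e₁ : orbit (stabilizer G a) b ≃ Fin m)
    (e₂ : {y : orbit (stabilizer G b) a // y ≠ pt G b a} ≃ Fin n) :
    Nonempty (stabilizer G a ≃*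
        ((Equiv.Perm.sign.comp (MonoidHom.fst (Equiv.Perm (Fin m)) (Equiv.Perm (Fin n)))) *
         (Equiv.Perm.sign.comp (MonoidHom.snd (Equiv.Perm (Fin m)) (Equiv.Perm (Fin n))))).ker) := by
  have hrC := range_rC_eq hprim h6 h hC hA
  have hCCb := CC_inf_eq hprim h6 h hC hA
  set A := stabilizer G a with hAdef
  set D := A ⊓ stabilizer G b with hD
  set N' := (CC G a b).subgroupOf A with hN'
  have hN'n : N'.Normal := by
    rw [hN', normal_subgroupOf_iff_le_normalizer (CC_le a b)]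
    exact le_normalizer_CC a b
  let iD : D →* A := inclusion inf_le_left
  let f₁ : D →* A ⧸ N' := (QuotientGroup.mk' N').comp iD
  let f₂ : D →* Equiv.Perm {y : orbit (stabilizer G b) a // y ≠ pt G b a} :=
    (rho (G := G) b a).comp (inclusion (by rw [hD, inf_comm]))
  have hf₂ : ∀ x : D, f₂ x = 1 ↔ (x : G) ∈ (K b a : Subgroup G) := fun x => rho_eq_one_iff b a _
  have hs : Function.Surjective f₁ := by
    intro q
    obtain ⟨x, rfl⟩ := QuotientGroup.mk'_surjective N' q
    obtain ⟨n, hn, y, hy, hxy⟩ := exists_mul h6 (alt_le_im_CC hprim h6 h hC) (CC_le a b)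
      (x := ((x⁻¹ : A) : G)) (x⁻¹).2
    refine ⟨⟨y, hy⟩⁻¹, ?_⟩
    change QuotientGroup.mk' N' (iD (⟨y, hy⟩⁻¹)) = QuotientGroup.mk' N' x
    rw [QuotientGroup.mk'_apply, QuotientGroup.mk'_apply, QuotientGroup.eq]
    have h1 : (iD (⟨y, hy⟩⁻¹))⁻¹ * x = x⁻¹ ^ 0 * (iD ⟨y, hy⟩ * x) := by
      rw [map_inv, inv_inv, pow_zero, one_mul]
    have h2 : ((iD ⟨y, hy⟩ * x : A) : G) = n⁻¹ := by
      change y * (x : G) = n⁻¹
      have h3 : (x : G)⁻¹ = n * y := hxy
      have h4 : (x : G) = (n * y)⁻¹ := by rw [← h3, inv_inv]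
      rw [h4]; group
    rw [h1, pow_zero, one_mul, hN', mem_subgroupOf, h2]
    exact inv_mem hn
  have hker : f₁.ker ≤ f₂.ker := by
    intro x hx
    rw [MonoidHom.mem_ker] at hx ⊢
    rw [hf₂, ← hCCb]
    have h1 : iD x ∈ N' := (QuotientGroup.eq_one_iff _).mp hx
    exact mem_inf.mpr ⟨h1, (mem_inf.mp x.2).2⟩
  let θ₀ : A ⧸ N' →* Equiv.Perm {y : orbit (stabilizer G b) a // y ≠ pt G b a} :=
    MonoidHom.liftOfSurjective f₁ hs ⟨f₂, hker⟩
  have hθ₀ : ∀ x : D, θ₀ (f₁ x) = f₂ x := fun x =>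
    MonoidHom.liftOfRightInverse_comp_apply _ _ _ _ _
  let θ : A →* Equiv.Perm {y : orbit (stabilizer G b) a // y ≠ pt G b a} :=
    θ₀.comp (QuotientGroup.mk' N')
  have hθD : ∀ x : D, θ (iD x) = f₂ x := fun x => hθ₀ x
  have hθN : ∀ x ∈ N', θ x = 1 := by
    intro x hx
    change θ₀ (QuotientGroup.mk' N' x) = 1
    have : QuotientGroup.mk' N' x = 1 := (QuotientGroup.eq_one_iff x).mpr hx
    rw [this, map_one]
  have hKD : (K a b : Subgroup G) ≤ D := K_le_inf a b
  have hKD' : (K b a : Subgroup G) ≤ D := by rw [hD, inf_comm]; exact K_le_inf b a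
  -- the values on the two kernels
  have hrc : ∀ (z : G) (hz : z ∈ (K a b : Subgroup G)), f₂ ⟨z, hKD hz⟩ = rC a b ⟨z, hz⟩ := fun z hz => rfl
  have hsgn1 : ∀ (z : G) (hz : z ∈ (K a b : Subgroup G)),
      Equiv.Perm.sign (f₂ ⟨z, hKD hz⟩) = 1 := by
    intro z hz
    rw [hrc z hz, ← Equiv.Perm.mem_alternatingGroup, ← hrC]
    exact ⟨_, rfl⟩
  have hsgn2 : ∀ (z : G) (hz : z ∈ (K b a : Subgroup G)),
      Equiv.Perm.sign (rho (G := G) a b ⟨z, hKD' hz⟩) = 1 := by
    intro z hz
    rw [sign_rho, ← Equiv.Perm.mem_alternatingGroup, ← hA]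
    exact mem_map_of_mem _ (K_le_CC hprim h6 h hz)
  have hsgnD : ∀ y : D, Equiv.Perm.sign (rho (G := G) a b y) = Equiv.Perm.sign (f₂ y) := by
    intro y
    have h1 : Equiv.Perm.sign (rho (G := G) a b y) = 1 ↔ Equiv.Perm.sign (f₂ y) = 1 := by
      constructor
      · intro h2
        rw [← Equiv.Perm.mem_alternatingGroup] at h2
        obtain ⟨z, hz, hzy⟩ := alt_le_map_rho hprim h6 h hC h2
        have h3 : ((y * z⁻¹ : D) : G) ∈ (K a b : Subgroup G) := by
          rw [← rho_eq_one_iff, map_mul, map_inv, hzy, mul_inv_cancel]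
        have h4 : f₂ z = 1 := (hf₂ z).mpr hz
        have h5 : f₂ y = f₂ (y * z⁻¹) := by rw [map_mul, map_inv, h4, inv_one, mul_one]
        rw [h5]
        exact hsgn1 _ h3
      · intro h2
        rw [← Equiv.Perm.mem_alternatingGroup, ← hrC] at h2
        obtain ⟨z, hzy⟩ := h2
        have h3 : ((y * (⟨z, hKD z.2⟩ : D)⁻¹ : D) : G) ∈ (K b a : Subgroup G) := by
          rw [← hf₂, map_mul, map_inv, hrc z z.2]
          change f₂ y * (rC a b z)⁻¹ = 1
          rw [hzy, mul_inv_cancel]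
        have h4 : rho (G := G) a b ⟨z, hKD z.2⟩ = 1 := (rho_eq_one_iff a b _).mpr z.2
        have h5 : rho (G := G) a b y = rho (G := G) a b (y * (⟨z, hKD z.2⟩ : D)⁻¹) := by
          rw [map_mul, map_inv, h4, inv_one, mul_one]
        rw [h5]
        exact hsgn2 _ h3
    rcases Int.units_eq_one_or (Equiv.Perm.sign (rho (G := G) a b y)) with h2 | h2
    · rw [h2, h1.mp h2]
    · rcases Int.units_eq_one_or (Equiv.Perm.sign (f₂ y)) with h3 | h3
      · exact absurd (h1.mpr h3) (by rw [h2]; decide)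
      · rw [h2, h3]
  have hsgn : ∀ x : A, Equiv.Perm.sign (ph (G := G) a b x) = Equiv.Perm.sign (θ x) := by
    intro x
    obtain ⟨n, hn, y, hy, hxy⟩ := exists_mul h6 (alt_le_im_CC hprim h6 h hC) (CC_le a b) x.2
    have h1 : x = (⟨n, CC_le a b hn⟩ : A) * iD ⟨y, hy⟩ := Subtype.ext hxy
    have h2 : Equiv.Perm.sign (ph (G := G) a b ⟨n, CC_le a b hn⟩) = 1 := by
      rw [← Equiv.Perm.mem_alternatingGroup, ← hA]
      exact mem_map_of_mem _ hn
    have h3 : θ (⟨n, CC_le a b hn⟩ : A) = 1 := hθN _ hn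
    rw [h1, map_mul, map_mul, map_mul, map_mul, h2, h3, hθD, ← hsgnD, sign_rho, map_one]
    rfl
  -- the map
  let Φ₀ : A →* Equiv.Perm (Fin m) × Equiv.Perm (Fin n) :=
    ((Equiv.permCongrHom e₁).toMonoidHom.comp (ph (G := G) a b)).prod
      ((Equiv.permCongrHom e₂).toMonoidHom.comp θ)
  have hΦ₀ : ∀ x, Φ₀ x = (e₁.permCongr (ph (G := G) a b x), e₂.permCongr (θ x)) := fun x => rfl
  have hmem : ∀ x, Φ₀ x ∈ ((Equiv.Perm.sign.comp (MonoidHom.fst (Equiv.Perm (Fin m)) (Equiv.Perm (Fin n)))) *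
         (Equiv.Perm.sign.comp (MonoidHom.snd (Equiv.Perm (Fin m)) (Equiv.Perm (Fin n))))).ker := by
    intro x
    rw [MonoidHom.mem_ker]
    change Equiv.Perm.sign (e₁.permCongr (ph (G := G) a b x)) * Equiv.Perm.sign (e₂.permCongr (θ x)) = 1
    rw [Equiv.Perm.sign_permCongr, Equiv.Perm.sign_permCongr, hsgn, Int.units_mul_self]
  refine ⟨MulEquiv.ofBijective (Φ₀.codRestrict _ hmem) ⟨?_, ?_⟩⟩
  · rw [injective_iff_map_eq_one]
    intro x hx
    have h1 : Φ₀ x = 1 := congrArg Subtype.val hx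
    rw [hΦ₀] at h1
    have h2 : ph (G := G) a b x = 1 := by
      have : (Equiv.permCongrHom e₁) (ph (G := G) a b x) = 1 := congrArg Prod.fst h1
      exact (MulEquiv.map_eq_one_iff _).mp this
    have h3 : θ x = 1 := by
      have : (Equiv.permCongrHom e₂) (θ x) = 1 := congrArg Prod.snd h1
      exact (MulEquiv.map_eq_one_iff _).mp this
    have h4 : (x : G) ∈ (K a b : Subgroup G) := (mem_K_iff x.2).mpr h2
    have h5 : f₂ ⟨x, hKD h4⟩ = 1 := by rw [← hθD]; exact h3
    have h7 : (x : G) ∈ (K a b ⊓ K b a : Subgroup G) := mem_inf.mpr ⟨h4, (hf₂ _).mp h5⟩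
    rw [K_inf_K hprim h6 h, mem_bot] at h7
    exact Subtype.ext h7
  · rintro ⟨⟨σ, τ⟩, hστ⟩
    have h1 : Equiv.Perm.sign σ * Equiv.Perm.sign τ = 1 := hστ
    obtain ⟨x, hx⟩ : ∃ x, ph (G := G) a b x = e₁.symm.permCongr σ := by
      have : e₁.symm.permCongr σ ∈ (ph (G := G) a b).range := by rw [hR]; trivial
      exact this
    have h2 : (θ x)⁻¹ * e₂.symm.permCongr τ ∈ (rC (G := G) a b).range := by
      rw [hrC, Equiv.Perm.mem_alternatingGroup, map_mul, map_inv, ← hsgn, hx,
        Equiv.Perm.sign_permCongr, Equiv.Perm.sign_permCongr, Int.units_inv_eq_self]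
      exact h1
    obtain ⟨z, hz⟩ := h2
    have h3 : θ (iD ⟨z, hKD z.2⟩) = (θ x)⁻¹ * e₂.symm.permCongr τ := by
      rw [hθD, hrc z z.2, ← hz]
    have h4 : ph (G := G) a b (iD ⟨z, hKD z.2⟩) = 1 := (mem_K_iff _).mp z.2
    refine ⟨x * iD ⟨z, hKD z.2⟩, ?_⟩
    apply Subtype.ext
    change Φ₀ (x * iD ⟨z, hKD z.2⟩) = (σ, τ)
    have h5 : ph (G := G) a b (x * iD ⟨z, hKD z.2⟩) = e₁.symm.permCongr σ := by
      rw [map_mul, h4, mul_one, hx]
    have h7 : θ (x * iD ⟨z, hKD z.2⟩) = e₂.symm.permCongr τ := by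
      rw [map_mul, h3, mul_inv_cancel_left]
    rw [hΦ₀, h5, h7]
    refine Prod.ext ?_ ?_
    · ext i; simp [Equiv.permCongr_apply]
    · ext i; simp [Equiv.permCongr_apply]

/-- The main theorem. -/
theorem main (hprim : IsPreprimitive G Ω) (a b : Ω)
    (h6 : 6 ≤ Nat.card (orbit (stabilizer G a) b))
    (halt : (toPermHom (stabilizer G a) (orbit (stabilizer G a) b)).range.index ≤ 2)
    (hunf : ¬ Function.Injective (toPermHom (stabilizer G a) (orbit (stabilizer G a) b))) :
    ((toPermHom (stabilizer G a) (orbit (stabilizer G a) b)).range.index = 2 ∧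
      Nonempty (stabilizer G a ≃* alternatingGroup (Fin (Nat.card (orbit (stabilizer G a) b))) ×
        alternatingGroup (Fin (Nat.card (orbit (stabilizer G a) b) - 1)))) ∨
    ((toPermHom (stabilizer G a) (orbit (stabilizer G a) b)).range = ⊤ ∧
      (Nonempty (stabilizer G a ≃* Equiv.Perm (Fin (Nat.card (orbit (stabilizer G a) b))) ×
          Equiv.Perm (Fin (Nat.card (orbit (stabilizer G a) b) - 1))) ∨
       Nonempty (stabilizer G a ≃* Equiv.Perm (Fin (Nat.card (orbit (stabilizer G a) b))) ×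
          alternatingGroup (Fin (Nat.card (orbit (stabilizer G a) b) - 1))) ∨
       Nonempty (stabilizer G a ≃*
        ((Equiv.Perm.sign.comp (MonoidHom.fst (Equiv.Perm (Fin (Nat.card (orbit (stabilizer G a) b))))
            (Equiv.Perm (Fin (Nat.card (orbit (stabilizer G a) b) - 1))))) *
         (Equiv.Perm.sign.comp (MonoidHom.snd (Equiv.Perm (Fin (Nat.card (orbit (stabilizer G a) b))))
            (Equiv.Perm (Fin (Nat.card (orbit (stabilizer G a) b) - 1)))))).ker))) := by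
  have h : alternatingGroup _ ≤ (ph (G := G) a b).range :=
    Equiv.Perm.alternatingGroup_le_of_index_le_two halt
  have hC : (K a b : Subgroup G) ≠ ⊥ := by
    intro h1
    apply hunf
    rw [injective_iff_map_eq_one]
    intro x hx
    have h2 : (x : G) ∈ (K a b : Subgroup G) := (mem_K_iff x.2).mpr hx
    rw [h1, mem_bot] at h2
    exact Subtype.ext h2
  have hnt : Nontrivial (orbit (stabilizer G a) b) := by
    rw [← Finite.one_lt_card_iff_nontrivial]; omega
  have e₁ : orbit (stabilizer G a) b ≃ Fin (Nat.card (orbit (stabilizer G a) b)) := Finite.equivFin _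
  have e₂ : {y : orbit (stabilizer G b) a // y ≠ pt G b a} ≃
      Fin (Nat.card (orbit (stabilizer G a) b) - 1) := Finite.equivFinOfCardEq (card_rest' hprim a b)
  have hCC := alt_le_im_CC hprim h6 h hC
  rcases eq_or_of_alternatingGroup_le h with hR | hR
  · left
    have hCC1 : im a b (CC G a b) = alternatingGroup _ := by
      apply le_antisymm _ hCC
      rw [← hR]
      rintro _ ⟨x, -, rfl⟩
      exact ⟨x, rfl⟩
    refine ⟨?_, ?_⟩
    · change (ph (G := G) a b).range.index = 2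
      rw [hR, alternatingGroup.index_eq_two]
    · obtain ⟨e⟩ := exists_equiv_of_eq hprim h6 h (hCC1.trans hR.symm)
      obtain ⟨f₁⟩ := equiv_alt hR e₁
      obtain ⟨f₂⟩ := equiv_alt (range_rC_eq hprim h6 h hC hCC1) e₂
      exact ⟨e.trans (MulEquiv.prodCongr f₁ f₂)⟩
  · right
    refine ⟨hR, ?_⟩
    rcases eq_or_of_alternatingGroup_le hCC with hN | hN
    swap
    · obtain ⟨e⟩ := exists_equiv_of_eq hprim h6 h (hN.trans hR.symm)
      obtain ⟨f₁⟩ := equiv_perm hR e₁
      rcases eq_or_of_alternatingGroup_le (alt_le_range_rC hprim h6 h hC) with hr | hr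
      · right; left
        obtain ⟨f₂⟩ := equiv_alt hr e₂
        exact ⟨e.trans (MulEquiv.prodCongr f₁ f₂)⟩
      · left
        obtain ⟨f₂⟩ := equiv_perm hr e₂
        exact ⟨e.trans (MulEquiv.prodCongr f₁ f₂)⟩
    right; right
    exact exists_equiv_ker hprim h6 h hC hR hN e₁ e₂

end struct

end Cfsg.Agent.H429.SubAlt
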